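import Cfsg.Agent.Lib.Lie.TwMax.Frame
import Cfsg.Agent.Lib.Lie.SubMax.Centralizer

/-!
An element commuting with elements of nonzero simple coordinates, and so its conjugate by a longest element, is trivial.
-/

set_option autoImplicit false

namespace Cfsg.Agent.Lie.TwMax

open Cfsg.Lie Matrix
open scoped MatrixGroups

variable {D : ChevalleyDatum} {F : Type*} [Field F] {hF : Facts D}

/-- For every node an element with nonzero coordinate commuting with h. -/
def CentU (hF : Facts D) (h : GL D.Idx F) : Prop :=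
  ∀ i : Fin D.rank, ∃ e ∈ (hF.tsys F).U, ∃ a : F, a ≠ 0 ∧ SubMax.HasCoord hF i e a ∧ Commute h e

open SubMax (HasCoord)

theorem CentU.mem_B {h : GL D.Idx F} (hh : CentU hF h) (hg : h ∈ D.group F) :
    h ∈ (hF.tsys F).B := by
  obtain ⟨b, hb, w, u, hu, hbw⟩ := hF.mem_bnu hg
  suffices hw : w = 1 by
    rw [hbw, hw]
    refine mul_mem (mul_mem hb ((hF.tsys F).H_le_B (hF.tsys F).nW_one)) ((hF.tsys F).U_le_B ?_)
    exact CommSys.US_mono _ (fun r hr => Facts.mem_posL.2 ((TorusSys.closed_invList w).mem_pos r hr)) hu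
  by_contra hne
  obtain ⟨i, hi⟩ : ∃ i : Fin D.rank, w • hF.refSys.α i ∉ hF.refSys.P := by
    by_contra hall
    simp only [not_exists, not_not] at hall
    obtain ⟨ω, hω, hlen⟩ := hF.refSys.exists_reduced w
    rcases List.eq_nil_or_concat ω with rfl | ⟨ω', i, rfl⟩
    · exact hne (by rw [← hω, RefSystem.pr_nil])
    · rw [List.concat_eq_append, RefSystem.pr_append, RefSystem.pr_singleton] at hω
      have h1 := hF.refSys.len_pr_le ω'
      have h2 := hF.refSys.len_mul_s_of_mem (w := w) (hall i)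
      have h3 : w * hF.refSys.s i = hF.refSys.pr ω' := by
        rw [← hω, mul_assoc, show hF.refSys.s i = hF.wS i from rfl, hF.wS_sq, mul_one]
      rw [h3] at h2
      rw [List.concat_eq_append, List.length_append, List.length_singleton] at hlen
      omega
  obtain ⟨e, heU, a, ha, hcoord, hfix⟩ := hh i
  set w' := w * hF.refSys.s i with hw'
  have hpos' : w' • hF.refSys.α i ∈ hF.refSys.P := by
    rw [hw', mul_smul, hF.refSys.s_α, RefSystem.smul_neg, hF.refSys.neg_mem]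
    exact hi
  have hww : w' * hF.refSys.s i = w := by
    rw [hw', mul_assoc, show hF.refSys.s i = hF.wS i from rfl, hF.wS_sq, mul_one]
  -- the representative of w
  obtain ⟨g, hgH, hgn⟩ : ∃ g ∈ (hF.tsys F).H, (hF.tsys F).nW w' * (hF.tsys F).nS i = g * (hF.tsys F).nW w := by
    obtain ⟨g, hgH, hgn⟩ := (hF.tsys F).nw_eq (ω := TorusSys.word w' ++ [i]) (w := w)
      (by rw [RefSystem.pr_append, RefSystem.pr_singleton, TorusSys.pr_word, hww])
    rw [TorusSys.nw_append, TorusSys.nw_singleton] at hgn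
    exact ⟨g, hgH, hgn⟩
  have huU : u ∈ (hF.tsys F).U :=
    CommSys.US_mono _ (fun r hr => Facts.mem_posL.2 ((TorusSys.closed_invList w).mem_pos r hr)) hu
  obtain ⟨cu, hcu⟩ := (hF.tsys F).U_split i huU
  obtain ⟨hcu1, au, rfl⟩ := hcu
  have hconjcoord : HasCoord hF i (cu * (hF.tsys F).x (D.simple i) au * e * (cu * (hF.tsys F).x (D.simple i) au)⁻¹) a := by
    have h0 : HasCoord hF i (cu * (hF.tsys F).x (D.simple i) au) au := ⟨cu, hcu1, rfl⟩
    have := (h0.mul hF hcoord).mul hF (h0.inv hF)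
    rwa [show au + a + -au = a by ring] at this
  obtain ⟨v, hv, hveq⟩ := hconjcoord
  set T := hF.tsys F
  set n := T.nS i with hn
  have hsl := hF.simple_lt i i.isLt
  -- the conjugate by the representative of w lies in B
  have heB : e ∈ T.B := T.U_le_B heU
  have hcomm := hfix.eq
  have h1 : b⁻¹ * e * b = T.nW w * (v * hF.xg (D.simple i) a) * (T.nW w)⁻¹ := by
    rw [← hveq]
    have : e = h * e * h⁻¹ := by rw [hcomm]; group
    conv_lhs => rw [this, hbw]
    group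
  -- move to w'
  set v'' := n * v * n⁻¹
  have hv'' : v'' ∈ T.U := T.US_posNe_le_U i (T.nS_conj_posNe i hv).1
  set a' := hF.sgn F i (D.simple i) * a
  have ha' : a' ≠ 0 := mul_ne_zero (left_ne_zero_of_mul_eq_one (hF.sgn_mul_self i.isLt hsl)) ha
  have hflip : n * hF.xg (D.simple i) a * n⁻¹ = hF.xg (D.neg (D.simple i)) a' := by
    have := T.nS_conj i hsl a
    rwa [hF.tsys_x, hF.tsys_x, Facts.refl_simple] at this
  obtain ⟨b₀, hb₀, h2⟩ : ∃ b₀ ∈ T.B, T.nW w' * (v'' * hF.xg (D.neg (D.simple i)) a') = b₀ * T.nW w' := by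
    refine ⟨g * (b⁻¹ * e * b) * g⁻¹, mul_mem (mul_mem (T.H_le_B hgH)
      (mul_mem (mul_mem (inv_mem hb) heB) hb)) (inv_mem (T.H_le_B hgH)), ?_⟩
    rw [h1, ← hflip]
    have e' : T.nW w' = g * T.nW w * n⁻¹ := by rw [← hgn, mul_inv_cancel_right]
    rw [e']
    simp only [v'']
    group
  obtain ⟨y, g', hg', hy⟩ := T.neg_simple_eq i ha'
  obtain ⟨b', hb', u', hu', h3⟩ := T.nW_mul_B w' (b := v'' * hF.xg (D.simple i) y * g')
    (mul_mem (mul_mem (T.U_le_B hv'') (T.U_le_B (T.x_mem_U (hF.simple_ge i i.isLt) hsl y))) (T.H_le_B hg'))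
  have hu'' : n⁻¹ * u' * n ∈ T.US (TorusSys.posNe D i) := by
    refine (T.nS_conj_posNe i ?_).2
    refine CommSys.US_mono _ (fun r hr => ?_) hu'
    obtain ⟨hr1, hr2⟩ := (TorusSys.closed_invList w').mem_pos r hr
    refine TorusSys.mem_posNe.2 ⟨hr1, hr2, fun e0 => ?_⟩
    obtain ⟨h, hi'⟩ := TorusSys.mem_invList.1 hr
    have : (⟨r, h⟩ : Fin D.nroots) = hF.refSys.α i := Fin.ext e0
    rw [this] at hi'
    exact ((RefSystem.mem_inv _).1 hi').2 hpos'
  have h4 : b₀ * T.nW w' * 1 = (b' * g) * T.nW w * (n⁻¹ * u' * n * hF.xg (D.simple i) y) := by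
    rw [mul_one, ← h2, show hF.xg (D.neg (D.simple i)) a' = T.x (D.neg (D.simple i)) a' from rfl, hy]
    calc T.nW w' * (v'' * (hF.xg (D.simple i) y * g' * n * hF.xg (D.simple i) y))
        = T.nW w' * (v'' * hF.xg (D.simple i) y * g') * (n * hF.xg (D.simple i) y) := by group
      _ = b' * (T.nW w' * n) * (n⁻¹ * u' * n * hF.xg (D.simple i) y) := by rw [h3]; group
      _ = _ := by rw [hgn]; group
  have h5 := T.bruhat_eq hF.hsep hb₀ (one_mem _) (mul_mem hb' (T.H_le_B hgH))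
    (mul_mem (T.U_le_B (T.US_posNe_le_U i hu'')) (T.U_le_B (T.x_mem_U (hF.simple_ge i i.isLt) hsl y))) h4
  rw [← h5] at hi
  exact hi hpos'

theorem mem_H_of_B {h : GL D.Idx F} {w0 : hF.weyl}
    (hw0 : ∀ r : Fin D.nroots, r ∈ hF.refSys.P → w0 • r ∉ hF.refSys.P) (hB : h ∈ (hF.tsys F).B)
    (hB' : ((hF.tsys F).nW w0)⁻¹ * h * (hF.tsys F).nW w0 ∈ (hF.tsys F).B) : h ∈ (hF.tsys F).H := by
  set n := (hF.tsys F).nW w0
  obtain ⟨v, hv, a, ha, hva⟩ := (hF.tsys F).mem_B.1 hB'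
  obtain ⟨v', hv', a', ha', hva'⟩ := (hF.tsys F).mem_B.1 hB
  have hnv : n * v * n⁻¹ ∈ D.negUnipotent F := by
    rw [← hF.conj_longest hw0]
    exact ⟨v, by rw [← hF.tsys_U]; exact hv, rfl⟩
  have hna : n * a * n⁻¹ ∈ (hF.tsys F).H := (hF.tsys F).nW_H ha
  have he : n * v * n⁻¹ = v' * (a' * (n * a * n⁻¹)⁻¹) := by
    rw [← mul_assoc, ← hva']
    calc n * v * n⁻¹ = n * (v * a) * n⁻¹ * (n * a * n⁻¹)⁻¹ := by group
      _ = _ := by rw [← hva]; group
  have h1 := hF.B_inter_V (he ▸ mul_mem ((hF.tsys F).U_le_B hv')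
    ((hF.tsys F).H_le_B (mul_mem ha' (inv_mem hna)))) hnv
  have e : h = n * (v * a) * n⁻¹ := by rw [← hva]; group
  rw [e, show n * (v * a) * n⁻¹ = n * v * n⁻¹ * (n * a * n⁻¹) by group, h1, one_mul]
  exact hna

/-- The element is trivial. -/
theorem CentU.eq_one {h : GL D.Idx F} (hh : CentU hF h) (hg : h ∈ D.group F) {w0 : hF.weyl}
    (hw0 : ∀ r : Fin D.nroots, r ∈ hF.refSys.P → w0 • r ∉ hF.refSys.P) {a : GL D.Idx F}
    (haH : a ∈ (hF.tsys F).H)
    (hh' : CentU hF ((a * (hF.tsys F).nW w0)⁻¹ * h * (a * (hF.tsys F).nW w0))) : h = 1 := by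
  have hB := hh.mem_B hg
  have haG : a ∈ D.group F := by
    rw [hF.tsys_H] at haH
    exact hF.borel_le_group (Subgroup.mem_sup_right haH)
  have hnG : (hF.tsys F).nW w0 ∈ D.group F :=
    hF.monomial_le_group (by rw [← hF.tsys_N]; exact (hF.tsys F).nW_mem_N w0)
  have hB' := hh'.mem_B (mul_mem (mul_mem (inv_mem (mul_mem haG hnG)) hg) (mul_mem haG hnG))
  have ha0 : a ∈ (hF.tsys F).B := (hF.tsys F).H_le_B haH
  have h0 := mem_H_of_B hw0 (mul_mem (mul_mem (inv_mem ha0) hB) ha0) (h := a⁻¹ * h * a)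
    (by convert hB' using 1; group)
  have hH : h ∈ (hF.tsys F).H := by
    have := mul_mem (mul_mem haH h0) (inv_mem haH)
    simpa [mul_assoc] using this
  have hH' := hH
  rw [hF.tsys_H, hF.diagonalSubgroup_eq] at hH'
  obtain ⟨c, rfl⟩ := hH'
  rw [coe_torus_eq_one, hF.torChar_eq_one_iff]
  intro i
  obtain ⟨e, -, x, hx, hcoord, hfix⟩ := hh i
  have hce := hfix.eq
  obtain ⟨w, hw, rfl⟩ := hcoord
  have hw' : torus D F c * w * (torus D F c)⁻¹ ∈ (hF.tsys F).US (TorusSys.posNe D i) :=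
    (hF.tsys F).H_conj_US hH (fun r hr => (TorusSys.mem_posNe.1 hr).2.1) hw
  have h1 : HasCoord hF i (w * hF.xg (D.simple i) x) ((torChar D c (D.simple i) : F) * x) := by
    refine ⟨_, hw', ?_⟩
    rw [← hF.torus_conj c (hF.simple_lt i i.isLt) x]
    calc w * hF.xg (D.simple i) x
        = torus D F c * (w * hF.xg (D.simple i) x) * (torus D F c)⁻¹ := by rw [hce, mul_inv_cancel_right]
      _ = _ := by group
  have h2 := h1.unique hF ⟨w, hw, rfl⟩
  exact Units.ext (mul_right_cancel₀ hx (by rw [h2, Units.val_one, one_mul]))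

end Cfsg.Agent.Lie.TwMax
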