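import Cfsg.Agent.Lib.Lie.SubMax.Climb
import Cfsg.Agent.Lib.Lie.TwistFrob

/-!
Additive coordinates on unipotent subgroups at roots which are no commutator targets.
-/

set_option autoImplicit false

namespace Cfsg.Agent.Lie.TwMax

open Cfsg.Lie Matrix
open scoped MatrixGroups

/-- The commutator terms of two different roots. -/
def tms (D : ChevalleyDatum) (a s : ℕ) : List (ℕ × ℤ × ℕ × ℕ) :=
  if s == a then [] else D.commTerms a s

/-- An increasing list of positive roots closed under commutators, and roots in it which are no targets. -/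
def okFree (D : ChevalleyDatum) (L Fr : List ℕ) : Bool :=
  decide (L.Pairwise (· < ·)) &&
  L.all (fun r => decide (D.nroots / 2 ≤ r) && decide (r < D.nroots)) &&
  Fr.all (fun r => L.contains r) &&
  L.all fun r => L.all fun s => (tms D r s).all fun c => L.contains c.1 && !Fr.contains c.1

/-- The list without a root. -/
def del (L : List ℕ) (r : ℕ) : List ℕ := L.filter (· != r)

theorem mem_del {L : List ℕ} {r s : ℕ} : s ∈ del L r ↔ s ∈ L ∧ s ≠ r := by simp [del]

variable {D : ChevalleyDatum} {F : Type*} [Field F] {hF : Facts D} {L Fr : List ℕ}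

/-- What the table gives. -/
structure Free (D : ChevalleyDatum) (L Fr : List ℕ) : Prop where
  cl : ClosedList D L
  sub : ∀ r ∈ Fr, r ∈ L
  avoid : ∀ r ∈ Fr, ∀ a ∈ L, ∀ b ∈ L, a ≠ b → ∀ c ∈ D.commTerms a b, c.1 ≠ r

theorem free_of_ok (h : okFree D L Fr = true) : Free D L Fr := by
  simp only [okFree, Bool.and_eq_true, decide_eq_true_eq, List.all_eq_true, List.contains_iff_mem,
    Bool.not_eq_true', List.contains_eq_mem, decide_eq_false_iff_not] at h
  obtain ⟨⟨⟨h1, h2⟩, h3⟩, h4⟩ := h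
  have key : ∀ a ∈ L, ∀ b ∈ L, a ≠ b → ∀ c ∈ D.commTerms a b, c.1 ∈ L ∧ c.1 ∉ Fr := fun a ha b hb hne c hc =>
    h4 a ha b hb c (by simp [tms, Ne.symm hne, hc])
  exact ⟨⟨h1, h2, fun a ha b hb hne c hc => (key a ha b hb hne c hc).1⟩, h3,
    fun r hr a ha b hb hne c hc e => (key a ha b hb hne c hc).2 (e ▸ hr)⟩

theorem Free.del_closed (h : Free D L Fr) {r : ℕ} (hr : r ∈ Fr) : ClosedList D (del L r) := by
  refine ⟨h.cl.sorted.filter _, fun s hs => h.cl.mem_pos s (mem_del.1 hs).1, fun a ha b hb hne c hc => ?_⟩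
  exact mem_del.2 ⟨h.cl.closed a (mem_del.1 ha).1 b (mem_del.1 hb).1 hne c hc,
    h.avoid r hr a (mem_del.1 ha).1 b (mem_del.1 hb).1 hne c hc⟩

include hF in
theorem Free.normalizes (h : Free D L Fr) {r : ℕ} (hr : r ∈ Fr) (t : F) :
    hF.xg r t ∈ Subgroup.normalizer ((hF.tsys F).US (del L r) : Set (GL D.Idx F)) := by
  have hrp := h.cl.mem_pos r (h.sub r hr)
  refine CommSys.x_normalizes _ hrp.2 (fun s hs => ?_) t
  obtain ⟨hsL, hsr⟩ := mem_del.1 hs
  have hsp := h.cl.mem_pos s hsL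
  exact ⟨hsp.2, SubMax.ne_neg_of_pos hF hrp hsp, fun _ c hc => mem_del.2
    ⟨h.cl.closed r (h.sub r hr) s hsL (Ne.symm hsr) c hc, h.avoid r hr r (h.sub r hr) s hsL (Ne.symm hsr) c hc⟩⟩

/-- The element g has coordinate a at r. -/
def CoAt (hF : Facts D) (L : List ℕ) (r : ℕ) (g : GL D.Idx F) (a : F) : Prop :=
  ∃ v ∈ (hF.tsys F).US (del L r), g = v * hF.xg r a

theorem CoAt.mem {r : ℕ} (hr : r ∈ L) {g : GL D.Idx F} {a : F} (h : CoAt hF L r g a) :
    g ∈ (hF.tsys F).US L := by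
  obtain ⟨v, hv, rfl⟩ := h
  exact mul_mem (CommSys.US_mono _ (fun s hs => (mem_del.1 hs).1) hv) (CommSys.x_mem_US _ hr a)

theorem CoAt.mul (h : Free D L Fr) {r : ℕ} (hr : r ∈ Fr) {g g' : GL D.Idx F} {a a' : F}
    (h1 : CoAt hF L r g a) (h2 : CoAt hF L r g' a') : CoAt hF L r (g * g') (a + a') := by
  obtain ⟨v, hv, rfl⟩ := h1
  obtain ⟨w, hw, rfl⟩ := h2
  refine ⟨v * (hF.xg r a * w * (hF.xg r a)⁻¹), mul_mem hv
    ((Subgroup.mem_normalizer_iff.1 (h.normalizes hr a) w).1 hw), ?_⟩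
  rw [hF.xg_add]; group

theorem CoAt.inv (h : Free D L Fr) {r : ℕ} (hr : r ∈ Fr) {g : GL D.Idx F} {a : F}
    (h1 : CoAt hF L r g a) : CoAt hF L r g⁻¹ (-a) := by
  obtain ⟨v, hv, rfl⟩ := h1
  refine ⟨(hF.xg r a)⁻¹ * v⁻¹ * hF.xg r a,
    (Subgroup.mem_normalizer_iff''.1 (h.normalizes hr a) _).1 (inv_mem hv), ?_⟩
  rw [hF.xg_neg]; group

theorem coAt_x {r s : ℕ} (hs : s ∈ L) (u : F) :
    CoAt hF L r (hF.xg s u) (if s = r then u else 0) := by
  by_cases e : s = r
  · rw [if_pos e, e]; exact ⟨1, one_mem _, (one_mul _).symm⟩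
  · rw [if_neg e]
    exact ⟨hF.xg s u, CommSys.x_mem_US _ (mem_del.2 ⟨hs, e⟩) u, by rw [hF.xg_zero, mul_one]⟩

theorem exists_coAt (h : Free D L Fr) {r : ℕ} (hr : r ∈ Fr) {g : GL D.Idx F}
    (hg : g ∈ (hF.tsys F).US L) : ∃ a, CoAt hF L r g a := by
  induction hg using Subgroup.closure_induction with
  | mem g hg =>
    obtain ⟨s, hs, u, rfl⟩ := hg
    exact ⟨_, coAt_x hs u⟩
  | one => exact ⟨0, 1, one_mem _, by rw [hF.xg_zero, mul_one]⟩
  | mul a b _ _ ha hb =>
    obtain ⟨x, hx⟩ := ha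
    obtain ⟨y, hy⟩ := hb
    exact ⟨_, hx.mul h hr hy⟩
  | inv a _ ha =>
    obtain ⟨x, hx⟩ := ha
    exact ⟨_, hx.inv h hr⟩

theorem prodOver_filter (t : ℕ → F) (p : ℕ → Bool) : ∀ L : List ℕ,
    (∀ s ∈ L, p s = false → t s = 0) →
      (hF.sys F).prodOver (L.filter p) t = (hF.sys F).prodOver L t := by
  intro L
  induction L with
  | nil => intro _; rfl
  | cons m L ih =>
    intro hz
    have ih' := ih fun s hs => hz s (List.mem_cons_of_mem _ hs)
    simp only [CommSys.prodOver, Facts.sys_x] at ih' ⊢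
    cases hp : p m with
    | true => rw [List.filter_cons_of_pos hp, List.map_cons, List.map_cons, List.prod_cons, List.prod_cons, ih']
    | false =>
      rw [List.filter_cons_of_neg (by simp [hp]), List.map_cons, List.prod_cons,
        hz m List.mem_cons_self hp, hF.xg_zero, one_mul, ih']

theorem prodOver_single {L : List ℕ} (hnd : L.Nodup) {r : ℕ} (hr : r ∈ L) (a : F) :
    (hF.sys F).prodOver L (fun s => if s = r then a else 0) = hF.xg r a := by
  rw [← prodOver_filter (hF := hF) (fun s => if s = r then a else 0) (fun s => decide (s = r)) L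
    (fun s _ hs => if_neg (by simpa using hs))]
  have e : L.filter (fun s => decide (s = r)) = [r] := by
    rw [show (fun s => decide (s = r)) = fun s => s == r from funext fun s => by rw [← beq_eq_decide],
      List.filter_beq, List.count_eq_one_of_mem hnd hr, List.replicate_one]
  rw [e]
  simp [CommSys.prodOver, Facts.sys_x]

theorem CoAt.unique (h : Free D L Fr) {r : ℕ} (hr : r ∈ Fr) {g : GL D.Idx F} {a a' : F}
    (h1 : CoAt hF L r g a) (h2 : CoAt hF L r g a') : a = a' := by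
  obtain ⟨v, hv, rfl⟩ := h1
  obtain ⟨w, hw, hh⟩ := h2
  have hx : hF.xg r (a - a') ∈ (hF.tsys F).US (del L r) := by
    rw [sub_eq_add_neg, hF.xg_add, hF.xg_neg]
    have : hF.xg r a * (hF.xg r a')⁻¹ = v⁻¹ * w := by
      rw [eq_inv_mul_iff_mul_eq, ← mul_assoc, hh, mul_inv_cancel_right]
    rw [this]
    exact mul_mem (inv_mem hv) hw
  obtain ⟨t, ht⟩ := CommSys.exists_prodOver (hF.sys F).toCommSys (h.del_closed hr) hx
  have e1 := prodOver_single (hF := hF) h.cl.sorted.nodup (h.sub r hr) (a - a')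
  have e2 := prodOver_filter (hF := hF) (fun s => if s = r then 0 else t s) (· != r) L
    (fun s _ hs => if_pos (by simpa using hs))
  have e3 : (hF.sys F).prodOver (del L r) t = (hF.sys F).prodOver (del L r) fun s => if s = r then 0 else t s :=
    CommSys.prodOver_congr _ fun s hs => by rw [if_neg (mem_del.1 hs).2]
  rw [← e1, e3, del, e2] at ht
  have := hF.prodOver_inj h.cl ht r (h.sub r hr)
  simpa [sub_eq_zero] using this

open Classical in
/-- The coordinate at a root. -/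
noncomputable def φ (hF : Facts D) (L : List ℕ) (r : ℕ) (g : GL D.Idx F) : F :=
  if h : ∃ a, CoAt hF L r g a then h.choose else 0

theorem coAt_φ (h : Free D L Fr) {r : ℕ} (hr : r ∈ Fr) {g : GL D.Idx F} (hg : g ∈ (hF.tsys F).US L) :
    CoAt hF L r g (φ hF L r g) := by
  have := exists_coAt (hF := hF) h hr hg
  rw [φ, dif_pos this]
  exact this.choose_spec

theorem φ_eq (h : Free D L Fr) {r : ℕ} (hr : r ∈ Fr) {g : GL D.Idx F} {a : F}
    (hc : CoAt hF L r g a) : φ hF L r g = a :=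
  (coAt_φ h hr (hc.mem (h.sub r hr))).unique h hr hc

theorem φ_mul (h : Free D L Fr) {r : ℕ} (hr : r ∈ Fr) {g g' : GL D.Idx F}
    (hg : g ∈ (hF.tsys F).US L) (hg' : g' ∈ (hF.tsys F).US L) :
    φ hF L r (g * g') = φ hF L r g + φ hF L r g' :=
  φ_eq h hr ((coAt_φ h hr hg).mul h hr (coAt_φ h hr hg'))

theorem φ_inv (h : Free D L Fr) {r : ℕ} (hr : r ∈ Fr) {g : GL D.Idx F}
    (hg : g ∈ (hF.tsys F).US L) : φ hF L r g⁻¹ = -φ hF L r g :=
  φ_eq h hr ((coAt_φ h hr hg).inv h hr)

theorem φ_one (h : Free D L Fr) {r : ℕ} (hr : r ∈ Fr) : φ hF L r (1 : GL D.Idx F) = 0 :=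
  φ_eq h hr ⟨1, one_mem _, by rw [hF.xg_zero, mul_one]⟩

theorem φ_x (h : Free D L Fr) {r s : ℕ} (hr : r ∈ Fr) (hs : s ∈ L) (u : F) :
    φ hF L r (hF.xg s u) = if s = r then u else 0 :=
  φ_eq h hr (coAt_x hs u)

theorem φ_list (h : Free D L Fr) {r : ℕ} (hr : r ∈ Fr) (t : ℕ → F) :
    ∀ L₀ : List ℕ, (∀ s ∈ L₀, s ∈ L) →
      φ hF L r ((hF.sys F).prodOver L₀ t) = (L₀.map fun s => if s = r then t s else 0).sum := by
  intro L₀
  induction L₀ with
  | nil => intro _; exact φ_one h hr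
  | cons m L₀ ih =>
    intro hsub
    have hsub' := fun s hs => hsub s (List.mem_cons_of_mem _ hs)
    simp only [CommSys.prodOver, List.map_cons, List.prod_cons, List.sum_cons, Facts.sys_x] at ih ⊢
    have hmem : (hF.sys F).prodOver L₀ t ∈ (hF.tsys F).US L :=
      CommSys.US_mono _ hsub' (CommSys.prodOver_mem _ L₀ t)
    have hxm : hF.xg m (t m) ∈ (hF.tsys F).US L := CommSys.x_mem_US _ (hsub m List.mem_cons_self) _
    simp only [CommSys.prodOver, Facts.sys_x] at hmem
    rw [φ_mul h hr hxm hmem, φ_x h hr (hsub m List.mem_cons_self), ih hsub']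

theorem φ_prodOver (h : Free D L Fr) {r : ℕ} (hr : r ∈ Fr) (t : ℕ → F) {L₀ : List ℕ} (hnd : L₀.Nodup)
    (hsub : ∀ s ∈ L₀, s ∈ L) :
    φ hF L r ((hF.sys F).prodOver L₀ t) = if r ∈ L₀ then t r else 0 := by
  rw [φ_list h hr t L₀ hsub]
  clear hsub
  induction L₀ with
  | nil => simp
  | cons m L₀ ih =>
    obtain ⟨hm, hnd'⟩ := List.nodup_cons.1 hnd
    rw [List.map_cons, List.sum_cons, ih hnd']
    by_cases e : m = r
    · subst e; simp [hm]
    · simp [e, Ne.symm e]

/-- An element is the ordered product of its coordinates. -/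
theorem exists_coords (h : Free D L Fr) {g : GL D.Idx F} (hg : g ∈ (hF.tsys F).US L) :
    ∃ t : ℕ → F, g = (hF.sys F).prodOver L t ∧ ∀ r ∈ Fr, t r = φ hF L r g := by
  obtain ⟨t, rfl⟩ := CommSys.exists_prodOver (hF.sys F).toCommSys h.cl hg
  exact ⟨t, rfl, fun r hr => by rw [φ_prodOver h hr t h.cl.sorted.nodup fun s hs => hs, if_pos (h.sub r hr)]⟩

/-- Zero coordinates can be left out. -/
theorem shrink (h : Free D L Fr) {g : GL D.Idx F} (hg : g ∈ (hF.tsys F).US L) {L' Fr' : List ℕ}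
    (h' : Free D L' Fr') (hsub : ∀ s ∈ L', s ∈ L)
    (hz : ∀ s ∈ L, s ∉ L' → s ∈ Fr ∧ φ hF L s g = 0) :
    g ∈ (hF.tsys F).US L' ∧ ∀ r ∈ Fr', r ∈ Fr → φ hF L' r g = φ hF L r g := by
  obtain ⟨t, rfl, ht⟩ := exists_coords h hg
  have e := prodOver_filter (hF := hF) t (L'.contains ·) L (fun s hs hs' => by
    obtain ⟨h1, h2⟩ := hz s hs (by simpa using hs')
    rw [ht s h1, h2])
  refine ⟨?_, fun r hr' hr => ?_⟩
  · rw [← e]
    exact CommSys.US_mono _ (fun s hs => by simpa using (List.mem_filter.1 hs).2) (CommSys.prodOver_mem _ _ _)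
  · rw [φ_prodOver h hr t h.cl.sorted.nodup fun s hs => hs, if_pos (h.sub r hr), ← e,
      φ_prodOver h' hr' t (h.cl.sorted.nodup.filter _) (fun s hs => by simpa using (List.mem_filter.1 hs).2),
      if_pos (List.mem_filter.2 ⟨h.sub r hr, by simpa using h'.sub r hr'⟩)]

/-! ### Conjugation by a root element -/

/-- The table: conjugation by x_a keeps the list. -/
def okConj (D : ChevalleyDatum) (L : List ℕ) (a : ℕ) : Bool :=
  decide (a < D.nroots) && L.all fun s => s != D.neg a &&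
    (tms D a s).all fun c => L.contains c.1 && c.2.2.1 == 1 && c.2.2.2 == 1

/-- The roots sending to r under conjugation by x_a, with coefficients. -/
def src (D : ChevalleyDatum) (L : List ℕ) (a r : ℕ) : List (ℕ × ℤ) :=
  L.flatMap fun s => ((tms D a s).filter fun c => c.1 == r).map fun c => (s, c.2.1)

/-- The change of the coordinate at r. -/
noncomputable def delta (hF : Facts D) (L : List ℕ) (l : List (ℕ × ℤ)) (g : GL D.Idx F) : F :=
  (l.map fun p => (p.2 : F) * φ hF L p.1 g).sum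

theorem xg_conj {a s : ℕ} (ha : a < D.nroots) (hs : s < D.nroots) (hne : s ≠ D.neg a) (k u : F) :
    hF.xg a k * hF.xg s u * (hF.xg a k)⁻¹ = hF.xg s u *
      hF.wg ((tms D a s).map fun c => (c.1, (c.2.1 : F) * k ^ c.2.2.1 * u ^ c.2.2.2)) := by
  by_cases e : s = a
  · subst e
    rw [tms, if_pos (beq_self_eq_true s), List.map_nil, hF.wg_nil, mul_one,
      (SubMax.xg_self_commute hF s k u).eq, mul_inv_cancel_right]
  · rw [← hF.xg_neg, tms, if_neg (by simpa using e), mul_assoc,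
      SubMax.xg_swap hF ha hs e hne (-k) u, ← mul_assoc, ← mul_assoc, ← hF.xg_add, add_neg_cancel,
      hF.xg_zero, one_mul]
    simp [ChevalleyDatum.commWord]

theorem coAt_wg (h : Free D L Fr) {r : ℕ} (hr : r ∈ Fr) : ∀ w : List (ℕ × F), (∀ p ∈ w, p.1 ∈ L) →
    CoAt hF L r (hF.wg w) ((w.filter fun p => p.1 == r).map Prod.snd).sum := by
  intro w
  induction w with
  | nil => intro _; exact ⟨1, one_mem _, by simp [hF.wg_nil, hF.xg_zero]⟩
  | cons p w ih =>
    intro hw
    rw [hF.wg_cons]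
    have h1 := coAt_x (hF := hF) (r := r) (hw p List.mem_cons_self) p.2
    have h2 := h1.mul h hr (ih fun q hq => hw q (List.mem_cons_of_mem _ hq))
    convert h2 using 1
    by_cases e : p.1 = r
    · simp [e]
    · simp [e, List.filter_cons]

theorem src_cons (a r s : ℕ) (L : List ℕ) :
    src D (s :: L) a r = ((tms D a s).filter fun c => c.1 == r).map (fun c => (s, c.2.1)) ++ src D L a r :=
  List.flatMap_cons

theorem delta_x (h : Free D L Fr) {s : ℕ} (hs : s ∈ L) (a r : ℕ) (u : F) :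
    ∀ L₁ : List ℕ, L₁.Nodup → (∀ b ∈ L₁, (src D [b] a r) ≠ [] → b ∈ Fr) →
      delta hF L (src D L₁ a r) (hF.xg s u) =
        if s ∈ L₁ then (((tms D a s).filter fun c => c.1 == r).map fun c => (c.2.1 : F) * u).sum else 0 := by
  intro L₁
  induction L₁ with
  | nil => intro _ _; simp [delta, src]
  | cons b L₁ ih =>
    intro hnd hfr
    obtain ⟨hb, hnd'⟩ := List.nodup_cons.1 hnd
    have ih' := ih hnd' fun x hx => hfr x (List.mem_cons_of_mem _ hx)
    simp only [delta, src_cons, List.map_append, List.sum_append] at ih' ⊢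
    rw [ih']
    have e1 : ((((tms D a b).filter fun c => c.1 == r).map fun c => (b, c.2.1)).map
        fun p => (p.2 : F) * φ hF L p.1 (hF.xg s u)).sum =
        if s = b then (((tms D a b).filter fun c => c.1 == r).map fun c => (c.2.1 : F) * u).sum else 0 := by
      by_cases hne : src D [b] a r = []
      · have hnil : ((tms D a b).filter fun c => c.1 == r) = [] := by
          simpa [src] using hne
        simp [hnil]
      · have hbF := hfr b List.mem_cons_self hne
        simp only [List.map_map, Function.comp_def, φ_x h hbF hs]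
        split
        · rfl
        · simp
    rw [e1]
    by_cases e : s = b
    · subst e; simp [hb]
    · simp [e]

theorem delta_mul (h : Free D L Fr) {l : List (ℕ × ℤ)} (hl : ∀ p ∈ l, p.1 ∈ Fr) {g g' : GL D.Idx F}
    (hg : g ∈ (hF.tsys F).US L) (hg' : g' ∈ (hF.tsys F).US L) :
    delta hF L l (g * g') = delta hF L l g + delta hF L l g' := by
  induction l with
  | nil => simp [delta]
  | cons p l ih =>
    simp only [delta, List.map_cons, List.sum_cons] at ih ⊢
    rw [φ_mul h (hl p List.mem_cons_self) hg hg', ih fun q hq => hl q (List.mem_cons_of_mem _ hq)]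
    ring

theorem delta_one (h : Free D L Fr) {l : List (ℕ × ℤ)} (hl : ∀ p ∈ l, p.1 ∈ Fr) :
    delta hF L l (1 : GL D.Idx F) = 0 := by
  have := delta_mul (hF := hF) h hl (one_mem ((hF.tsys F).US L)) (one_mem _)
  rw [mul_one] at this
  simpa using this

/-- Conjugation by a root element: membership and coordinates. -/
theorem conj_root (h : Free D L Fr) {a : ℕ} (hc : okConj D L a = true) (k : F) {g : GL D.Idx F}
    (hg : g ∈ (hF.tsys F).US L) :
    hF.xg a k * g * (hF.xg a k)⁻¹ ∈ (hF.tsys F).US L ∧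
      ∀ r ∈ Fr, ∀ l : List (ℕ × ℤ), src D L a r = l → (∀ p ∈ l, p.1 ∈ Fr) →
        φ hF L r (hF.xg a k * g * (hF.xg a k)⁻¹) = φ hF L r g + k * delta hF L l g := by
  simp only [okConj, Bool.and_eq_true, decide_eq_true_eq, List.all_eq_true, bne_iff_ne,
    List.contains_iff_mem, beq_iff_eq] at hc
  obtain ⟨ha, hc⟩ := hc
  set x := hF.xg a k
  induction hg using Subgroup.closure_induction with
  | mem g hg =>
    obtain ⟨s, hs, u, rfl⟩ := hg
    obtain ⟨hne, hterms⟩ := hc s hs
    have e := xg_conj (hF := hF) ha (h.cl.mem_pos s hs).2 hne k u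
    have hw : ∀ p ∈ (tms D a s).map (fun c => (c.1, (c.2.1 : F) * k ^ c.2.2.1 * u ^ c.2.2.2)), p.1 ∈ L := by
      intro p hp
      obtain ⟨c, hcm, rfl⟩ := List.mem_map.1 hp
      exact (hterms c hcm).1.1
    rw [hF.tsys_x, e]
    refine ⟨mul_mem (CommSys.x_mem_US _ hs u) (hF.wg_mem fun p hp => CommSys.x_mem_US _ (hw p hp) _), ?_⟩
    intro r hr l hl hlF
    refine φ_eq h hr ?_
    have := (coAt_x (hF := hF) (r := r) hs u).mul h hr (coAt_wg h hr _ hw)
    convert this using 1
    rw [← hl, delta_x h hs a r u L h.cl.sorted.nodup, if_pos hs, φ_x h hr hs]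
    · congr 1
      simp only [List.filter_map, List.map_map, Function.comp_def]
      rw [← List.sum_map_mul_left]
      congr 1
      refine List.map_congr_left fun c hcm => ?_
      obtain ⟨⟨-, e1⟩, e2⟩ := hterms c (List.mem_filter.1 hcm).1
      rw [e1, e2]
      ring
    · intro b hb hne'
      obtain ⟨p, hp⟩ := List.exists_mem_of_ne_nil _ hne'
      have hb' : p.1 = b := by
        simp only [src, List.flatMap_cons, List.flatMap_nil, List.append_nil, List.mem_map] at hp
        obtain ⟨c, -, rfl⟩ := hp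
        rfl
      rw [← hb']
      refine hlF p ?_
      rw [← hl, src, List.mem_flatMap]
      refine ⟨b, hb, ?_⟩
      simpa [src] using hp
  | one =>
    refine ⟨by simp, fun r hr l _ hlF => ?_⟩
    rw [mul_one, mul_inv_cancel, φ_one h hr, delta_one h hlF, mul_zero, add_zero]
  | mul p q hp hq ihp ihq =>
    have e : x * (p * q) * x⁻¹ = (x * p * x⁻¹) * (x * q * x⁻¹) := by group
    refine ⟨e ▸ mul_mem ihp.1 ihq.1, fun r hr l hl hlF => ?_⟩
    rw [e, φ_mul h hr ihp.1 ihq.1, ihp.2 r hr l hl hlF, ihq.2 r hr l hl hlF, φ_mul h hr hp hq,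
      delta_mul h hlF hp hq]
    ring
  | inv p hp ihp =>
    have e : x * p⁻¹ * x⁻¹ = (x * p * x⁻¹)⁻¹ := by group
    refine ⟨e ▸ inv_mem ihp.1, fun r hr l hl hlF => ?_⟩
    have h2 := delta_mul (hF := hF) h hlF hp (inv_mem hp)
    rw [mul_inv_cancel, delta_one h hlF] at h2
    rw [e, φ_inv h hr ihp.1, ihp.2 r hr l hl hlF, φ_inv h hr hp]
    linear_combination (k : F) * h2

/-- The commutator with a root element. -/
theorem comm_root (h : Free D L Fr) {a : ℕ} (hc : okConj D L a = true) (k : F) {g : GL D.Idx F}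
    (hg : g ∈ (hF.tsys F).US L) :
    hF.xg a k * g * (hF.xg a k)⁻¹ * g⁻¹ ∈ (hF.tsys F).US L ∧
      ∀ r ∈ Fr, ∀ l : List (ℕ × ℤ), src D L a r = l → (∀ p ∈ l, p.1 ∈ Fr) →
        φ hF L r (hF.xg a k * g * (hF.xg a k)⁻¹ * g⁻¹) = k * delta hF L l g := by
  obtain ⟨h1, h2⟩ := conj_root h hc k hg
  refine ⟨mul_mem h1 (inv_mem hg), fun r hr l hl hlF => ?_⟩
  rw [φ_mul h hr h1 (inv_mem hg), φ_inv h hr hg, h2 r hr l hl hlF]
  ring

/-! ### Field automorphisms and root maps -/

theorem gmap_US (f : F →+* F) (L : List ℕ) {g : GL D.Idx F} (hg : g ∈ (hF.tsys F).US L) :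
    gmap f g ∈ (hF.tsys F).US L := hF.gmap_US_le f L ⟨g, hg, rfl⟩

theorem φ_gmap (h : Free D L Fr) {r : ℕ} (hr : r ∈ Fr) (f : F →+* F) {g : GL D.Idx F}
    (hg : g ∈ (hF.tsys F).US L) : φ hF L r (gmap f g) = f (φ hF L r g) := by
  obtain ⟨t, rfl, -⟩ := exists_coords h hg
  have e : gmap f ((hF.sys F).prodOver L t) = (hF.sys F).prodOver L fun s => f (t s) := by
    simp only [CommSys.prodOver, map_list_prod, List.map_map, Function.comp_def, Facts.sys_x, hF.gmap_xg]
  rw [e, φ_prodOver h hr _ h.cl.sorted.nodup (fun s hs => hs), φ_prodOver h hr _ h.cl.sorted.nodup (fun s hs => hs)]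
  simp [h.sub r hr]

variable (T : Twist hF F)

/-- The table: the root map permutes the free roots and keeps the list. -/
def okImg (D : ChevalleyDatum) (R : RMap) (L Fr : List ℕ) : Bool :=
  L.all (fun s => L.contains (R.img s) && R.expo s == 1) &&
  Fr.all fun r => Fr.contains (R.img r) && L.all fun s => s == r || R.img s != R.img r

theorem φ_sig (h : Free D L Fr) (hi : okImg D T.R L Fr = true) {g : GL D.Idx F}
    (hg : g ∈ (hF.tsys F).US L) :
    T.sig g ∈ (hF.tsys F).US L ∧ ∀ r ∈ Fr,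
      φ hF L (T.R.img r) (T.sig g) = (T.R.sign r : F) * T.fr (φ hF L r g) := by
  simp only [okImg, Bool.and_eq_true, List.all_eq_true, List.contains_iff_mem, beq_iff_eq,
    Bool.or_eq_true, bne_iff_ne] at hi
  obtain ⟨hL, hF'⟩ := hi
  have hGr : ∀ {x : GL D.Idx F}, x ∈ (hF.tsys F).US L → x ∈ D.group F := fun hx => T.US_le_group _ hx
  induction hg using Subgroup.closure_induction with
  | mem g hg =>
    obtain ⟨s, hs, u, rfl⟩ := hg
    have hlt := (h.cl.mem_pos s hs).2
    rw [hF.tsys_x, T.sig_x s hlt, hF.imgX_lt T.R hlt, (hL s hs).2, pow_one]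
    refine ⟨CommSys.x_mem_US _ (hL s hs).1 _, fun r hr => ?_⟩
    rw [φ_x h (hF' r hr).1 (hL s hs).1, φ_x h hr hs]
    by_cases e : s = r
    · subst e; rw [if_pos rfl, if_pos rfl]
    · rw [if_neg (((hF' r hr).2 s hs).resolve_left e), if_neg e, map_zero, mul_zero]
  | one =>
    rw [T.sig_one]
    exact ⟨one_mem _, fun r hr => by rw [φ_one h (hF' r hr).1, φ_one h hr, map_zero, mul_zero]⟩
  | mul p q hp hq ihp ihq =>
    rw [T.sig_mul _ (hGr hp) _ (hGr hq)]
    refine ⟨mul_mem ihp.1 ihq.1, fun r hr => ?_⟩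
    rw [φ_mul h (hF' r hr).1 ihp.1 ihq.1, φ_mul h hr hp hq, ihp.2 r hr, ihq.2 r hr, map_add, mul_add]
  | inv p hp ihp =>
    rw [T.sig_inv (hGr hp)]
    refine ⟨inv_mem ihp.1, fun r hr => ?_⟩
    rw [φ_inv h (hF' r hr).1 ihp.1, φ_inv h hr hp, ihp.2 r hr, map_neg, mul_neg]

/-- The coordinates of fixed elements. -/
theorem φ_fixed (h : Free D L Fr) (hi : okImg D T.R L Fr = true) {g : GL D.Idx F}
    (hg : g ∈ (hF.tsys F).US L) (hf : g ∈ T.fix) {r : ℕ} (hr : r ∈ Fr) :
    φ hF L (T.R.img r) g = (T.R.sign r : F) * T.fr (φ hF L r g) := by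
  have := (φ_sig T h hi hg).2 r hr
  rwa [hf.2] at this

end Cfsg.Agent.Lie.TwMax
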