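import Cfsg.Agent.Lib.Lie.TwMax.Extract
import Cfsg.Agent.Lib.Lie.TwistD4

/-!
The subfield subgroup of the triality twisted group.
-/

set_option autoImplicit false
set_option maxRecDepth 100000

namespace Cfsg.Agent.Lie.TwMax

open Cfsg.Lie Matrix
open scoped MatrixGroups

variable {D : ChevalleyDatum} {F : Type*} [Field F] {hF : Facts D} {L Fr : List ℕ}

/-- Coordinates in a larger list. -/
theorem φ_mono (h : Free D L Fr) {L' Fr' : List ℕ} (h' : Free D L' Fr') (hsub : ∀ s ∈ L', s ∈ L)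
    {g : GL D.Idx F} (hg : g ∈ (hF.tsys F).US L') {r : ℕ} (hr : r ∈ Fr) (hr' : r ∈ Fr') :
    φ hF L r g = φ hF L' r g := by
  obtain ⟨t, rfl, ht⟩ := exists_coords (hF := hF) h' hg
  rw [φ_prodOver h hr t h'.cl.sorted.nodup hsub, if_pos (h'.sub r hr'), ht r hr']

/-- The table: a word permutes the list and its free roots. -/
def okMove (D : ChevalleyDatum) (L Fr : List ℕ) (ω : List (Fin D.rank)) : Bool :=
  L.all (fun s => L.contains (actR D (ω.map Fin.val) s)) &&
  Fr.all fun r => Fr.contains (actR D (ω.map Fin.val) r) &&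
    L.all fun s => s == r || actR D (ω.map Fin.val) s != actR D (ω.map Fin.val) r

/-- Coordinates after conjugation by a Weyl representative. -/
theorem φ_nw (h : Free D L Fr) {ω : List (Fin D.rank)} (hm : okMove D L Fr ω = true) {g : GL D.Idx F}
    (hg : g ∈ (hF.tsys F).US L) :
    (hF.tsys F).nw ω * g * ((hF.tsys F).nw ω)⁻¹ ∈ (hF.tsys F).US L ∧ ∀ r ∈ Fr, ∀ e : F,
      (∀ t, (hF.tsys F).nw ω * hF.xg r t * ((hF.tsys F).nw ω)⁻¹ = hF.xg (actR D (ω.map Fin.val) r) (e * t)) →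
        φ hF L (actR D (ω.map Fin.val) r) ((hF.tsys F).nw ω * g * ((hF.tsys F).nw ω)⁻¹) = e * φ hF L r g := by
  simp only [okMove, Bool.and_eq_true, List.all_eq_true, List.contains_iff_mem, Bool.or_eq_true, beq_iff_eq,
    bne_iff_ne] at hm
  obtain ⟨hL, hFr⟩ := hm
  set n := (hF.tsys F).nw ω
  induction hg using Subgroup.closure_induction with
  | mem g hg =>
    obtain ⟨s, hs, u, rfl⟩ := hg
    obtain ⟨e', -, he'⟩ := nw_conj_root (hF := hF) (F := F) ω s (h.cl.mem_pos s hs).2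
    rw [hF.tsys_x, he']
    refine ⟨CommSys.x_mem_US _ (hL s hs) _, fun r hr e he => ?_⟩
    rw [φ_x h (hFr r hr).1 (hL s hs), φ_x h hr hs]
    by_cases hsr : s = r
    · subst hsr
      rw [if_pos rfl, if_pos rfl]
      exact hF.xg_inj (h.cl.mem_pos _ (hL s hs)).2 ((he' u).symm.trans (he u))
    · rw [if_neg (((hFr r hr).2 s hs).resolve_left hsr), if_neg hsr, mul_zero]
  | one =>
    refine ⟨by simp, fun r hr e _ => ?_⟩
    rw [mul_one, mul_inv_cancel, φ_one h (hFr r hr).1, φ_one h hr, mul_zero]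
  | mul p q hp hq ihp ihq =>
    have e0 : n * (p * q) * n⁻¹ = (n * p * n⁻¹) * (n * q * n⁻¹) := by group
    refine ⟨e0 ▸ mul_mem ihp.1 ihq.1, fun r hr e he => ?_⟩
    rw [e0, φ_mul h (hFr r hr).1 ihp.1 ihq.1, φ_mul h hr hp hq, ihp.2 r hr e he, ihq.2 r hr e he, mul_add]
  | inv p hp ihp =>
    have e0 : n * p⁻¹ * n⁻¹ = (n * p * n⁻¹)⁻¹ := by group
    refine ⟨e0 ▸ inv_mem ihp.1, fun r hr e he => ?_⟩
    rw [e0, φ_inv h (hFr r hr).1 ihp.1, φ_inv h hr hp, ihp.2 r hr e he, mul_neg]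

end Cfsg.Agent.Lie.TwMax

namespace Cfsg.Agent.Lie.D4

open Cfsg.Lie Matrix
open scoped MatrixGroups

/-- The nodes orthogonal to the highest root. -/
def maxJ : List (Fin chevD4.rank) := fnodes chevD4 [0, 2, 3]

/-- The orbits in level one. -/
def maxPs : List (List ℕ) := [[14], [15, 16, 19], [17, 20, 21], [22]]

theorem okBase_D4 : TwMax.okBase chevD4 graphD4a = true := by decide +kernel

theorem okClimb_D4 : TwMax.okClimb chevD4 graphD4a Os = true := by decide +kernel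

theorem okQ_D4 : TwMax.okQ chevD4 graphD4a maxJ maxPs = true := by decide +kernel

/-- Commutators giving the nodes of the short orbit of simple roots. -/
def maxGens : List (ℕ × ℕ × List (ℕ × ℤ)) :=
  [(0, 9, [(15, 1), (19, -1), (16, 1)]), (2, 9, [(15, 1), (19, -1), (16, 1)]), (3, 9, [(15, 1), (19, -1), (16, 1)])]

theorem okGens_D4 : TwMax.okGens chevD4 graphD4a maxGens = true := by decide +kernel

/-- The list with the level zero orbit. -/
def L3 : List ℕ := [12, 13, 15, 16, 17, 18, 19, 20, 21, 22, 23]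

/-- Its free roots. -/
def Fr3 : List ℕ := [12, 13, 18, 15, 16, 19]

/-- Level one without the first long root. -/
def L4 : List ℕ := [15, 16, 17, 19, 20, 21, 22, 23]

/-- Its free roots. -/
def Fr4 : List ℕ := [15, 16, 17, 19, 20, 21, 22]

/-- The commutative end of the radical. -/
def L5 : List ℕ := [17, 20, 21, 22, 23]

theorem okLists_D4 : (TwMax.okFree chevD4 L3 Fr3 && TwMax.okFree chevD4 L4 Fr4 &&
    TwMax.okFree chevD4 L5 L5 && TwMax.okImg chevD4 graphD4a L5 L5 && TwMax.okImg chevD4 graphD4a L4 Fr4 &&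
    TwMax.okFree chevD4 [12, 13, 18] [12, 13, 18]) = true := by decide +kernel

theorem okConjs_D4 : (TwMax.okConj chevD4 L3 9 && TwMax.okConj chevD4 L3 14 && TwMax.okConj chevD4 L4 12 &&
    TwMax.okConj chevD4 L4 13 && TwMax.okConj chevD4 L4 18 &&
    TwMax.okMove chevD4 (TwMax.qL chevD4) (SubMax.q1 chevD4) (fnodes chevD4 [0, 2, 3]) &&
    (SubMax.oneTerm (TwMax.tms chevD4 (chevD4.neg (SubMax.top chevD4)) 22) 9 &&
      22 != chevD4.neg (chevD4.neg (SubMax.top chevD4)))) = true := by decide +kernel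

theorem srcs_D4 :
    TwMax.src chevD4 L3 9 12 = [(15, -1)] ∧
    TwMax.src chevD4 L3 14 12 = [] ∧ TwMax.src chevD4 L3 14 13 = [] ∧ TwMax.src chevD4 L3 14 18 = [] ∧
    TwMax.src chevD4 L3 14 15 = [(12, -1)] ∧
    TwMax.src chevD4 L4 18 15 = [] ∧ TwMax.src chevD4 L4 18 16 = [] ∧ TwMax.src chevD4 L4 18 17 = [] ∧
    TwMax.src chevD4 L4 18 19 = [] ∧
    TwMax.src chevD4 L4 13 15 = [] ∧ TwMax.src chevD4 L4 13 16 = [] ∧ TwMax.src chevD4 L4 13 19 = [] ∧
    TwMax.src chevD4 L4 13 17 = [(15, 1)] ∧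
    TwMax.src chevD4 L4 12 15 = [] ∧ TwMax.src chevD4 L4 12 16 = [] ∧ TwMax.src chevD4 L4 12 19 = [] ∧
    TwMax.src chevD4 L4 12 17 = [(16, 1)] := by decide +kernel

theorem q1_D4 : SubMax.q1 chevD4 = [14, 15, 16, 17, 19, 20, 21, 22] ∧ TwMax.qL chevD4 = [14, 15, 16, 17, 19, 20, 21, 22, 23] := by
  decide +kernel

theorem act_D4 : (([(17, [15, 16, 19]), (20, [15, 16, 19]), (21, [15, 16, 19])] : List (ℕ × List ℕ)).all
    fun p => p.2.contains (actR chevD4 ((fnodes chevD4 [0, 2, 3]).map Fin.val) p.1)) = true ∧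
    actR chevD4 ((fnodes chevD4 [0, 2, 3]).map Fin.val) 0 = 0 ∧
    (([17, 20, 21] : List ℕ).all fun s => decide (s < chevD4.nroots) &&
      ([12, 13, 18] : List ℕ).contains (actR chevD4
        (((([[1], [0, 2, 3]] : List (List ℕ)).map (fnodes chevD4)).flatten).map Fin.val) s)) = true := by
  decide +kernel

theorem graph_D4 : graphD4a.img 15 = 19 ∧ graphD4a.sign 15 = -1 ∧ graphD4a.img 19 = 16 ∧ graphD4a.sign 19 = -1 ∧
    graphD4a.img 16 = 15 ∧ graphD4a.sign 16 = 1 ∧ graphD4a.img 14 = 14 ∧ graphD4a.img 22 = 22 ∧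
    graphD4a.img 23 = 23 ∧ graphD4a.img 9 = 9 ∧ chevD4.neg (SubMax.top chevD4) = 0 := by decide +kernel

variable {K : Type*} [Field K] [Fintype K] {q : ℕ}

namespace Setup

variable (S : Setup K q)

include S

theorem maxCtx : TwMax.Ctx S.data where
  base := by rw [S.hR]; exact okBase_D4
  climb := by rw [S.hR]; exact okClimb_D4
  quad := ⟨maxJ, maxPs, by rw [S.hR]; exact okQ_D4⟩
  nw_mem := TwMax.nw_mem_of fun ω hω => by
    have hs := List.mem_map_of_mem (f := fun ω => Twist.simples chevD4 ω) hω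
    rw [simplesLs] at hs
    simp only [List.mem_cons, List.not_mem_nil, or_false] at hs
    have hm1 : ((-1 : K)) ^ q = -1 := by rw [← S.hfr, map_neg, map_one]
    have hcc : ∀ L ∈ ([[14], [18, 13, 12]] : List (List ℕ)), okComm2 chevD4 L = true := by decide +kernel
    rcases hs with h | h <;> rw [h]
    · exact ⟨by decide, hcc _ (by simp), okComm' (by simp), S.stable (by simp), by
        simpa [show chevD4.neg 14 = 9 from rfl, Setup.data] using S.A_mem (Or.inr rfl) hm1⟩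
    · exact ⟨by decide, hcc _ (by simp), okComm' (by simp), S.stable (by simp), by
        simpa [CommSys.prodOver, Facts.sys_x, cB, hm1, show chevD4.neg 18 = 5 from rfl, Setup.data,
          show chevD4.neg 13 = 10 from rfl, show chevD4.neg 12 = 11 from rfl] using S.B_mem (Or.inr rfl) (-1)⟩

theorem mem_MS_B {L : List ℕ} (hL : L = [18, 13, 12] ∨ L = [5, 10, 11]) {μ : K} (hμ : S.T.fr μ = μ) :
    (factsD4.sys K).prodOver L (cB q μ) ∈ TwMax.MS S.data := by
  refine TwMax.mem_MS.2 ⟨S.B_mem hL μ, ?_⟩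
  have hμq : μ ^ q = μ := by rw [← S.hfr, hμ]
  rw [TwMax.gmap_prodOver]
  refine CommSys.prodOver_congr _ fun r _ => ?_
  unfold cB
  split
  · exact hμ
  · split <;> simp only [hμq, hμ]

theorem card_fixed : Fintype.card K = Nat.card (S.T.fr.eqLocusField (RingHom.id K)) ^ 3 := by
  rw [← Nat.card_eq_fintype_card, S.hK]
  congr 1
  refine (card_pow_eq_self (q := q) (F := K) S.hq S.hK).symm.trans ?_
  exact Nat.card_congr (Equiv.subtypeEquivRight fun x => by rw [← S.hfr]; exact Iff.rfl)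

/-- An irrational element in the short simple orbit gives everything. -/
theorem all_of_short {H : Subgroup (GL chevD4.Idx K)} (hle : TwMax.MS S.data ≤ H)
    {y : GL chevD4.Idx K} (hy : y ∈ H) (hyL : y ∈ (factsD4.tsys K).US [12, 13, 18]) (hyf : y ∈ S.T.fix)
    (hyi : gmap S.T.fr y ≠ y) : twistedD4 K q ≤ H := by
  have hm := okLists_D4
  simp only [Bool.and_eq_true] at hm
  obtain ⟨t, rfl⟩ := S.fix_B (TwMax.free_of_ok hm.2).cl hyL hyf
  obtain ⟨Ψ, hΨ, -⟩ := TwMax.exists_orbitHom (hF := factsD4)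
    [(18, RingHom.id K), (13, S.T.fr), (12, S.T.fr.comp S.T.fr)] (by simp)
    (by show okComm2 chevD4 [18, 13, 12] = true; decide +kernel)
  have hup : ∀ μ, Ψ (upS μ) = (factsD4.sys K).prodOver [18, 13, 12] (cB q μ) ∧
      Ψ (loS μ) = (factsD4.sys K).prodOver [5, 10, 11] (cB q μ) := by
    intro μ
    simp [(hΨ μ).1, (hΨ μ).2, CommSys.prodOver, Facts.wg, Facts.sys_x, cB, S.hfr,
      show chevD4.neg 18 = 5 from rfl, show chevD4.neg 13 = 10 from rfl, show chevD4.neg 12 = 11 from rfl]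
  have hti : S.T.fr t ≠ t := fun e => hyi (TwMax.mem_MS.1 (S.mem_MS_B (Or.inl rfl) e)).2
  have hfull := TwMax.rank_one_full (X := S.data) Nat.prime_three (K₀ := S.T.fr.eqLocusField (RingHom.id K))
    (fun x => Iff.rfl) S.card_fixed Ψ (fun μ hμ => by
      rw [(hup μ).1, (hup μ).2]
      exact ⟨S.mem_MS_B (Or.inl rfl) hμ, S.mem_MS_B (Or.inr rfl) hμ⟩) hle hti (by rwa [(hup t).1])
  refine (Subgroup.closure_le _).2 ?_
  rintro g ⟨w, hw, hg⟩
  rw [show g = factsD4.wg w from Units.ext (by rw [hg, factsD4.coe_wg])]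
  rcases hw with ⟨t, ht, r, hr, rfl⟩ | ⟨t, rs, hrs, rfl⟩
  · have hr' : r ∈ ([14, 9] : List ℕ) := by simp [d4p2, d4m2] at hr ⊢; omega
    have htab : ∀ r ∈ ([14, 9] : List ℕ), r < chevD4.nroots ∧ graphD4a.img r = r := by decide
    obtain ⟨hlt, himg⟩ := htab r hr'
    simpa [Facts.wg] using hle (S.maxCtx.long_mem hlt (by rw [S.hR]; exact himg) (c := t) (by rw [S.hfr, ht]))
  · have hq2 : t ^ (q ^ 2) = (t ^ q) ^ q := by rw [← pow_mul, pow_two]
    have h1 := hfull t
    rw [(hup t).1, (hup t).2] at h1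
    simp only [List.mem_cons, List.not_mem_nil, or_false] at hrs
    rcases hrs with rfl | rfl
    · simpa [Facts.wg, CommSys.prodOver, Facts.sys_x, cB, hq2, d4p1, d4p3, d4p4] using h1.1
    · simpa [Facts.wg, CommSys.prodOver, Facts.sys_x, cB, hq2, d4m1, d4m3, d4m4] using h1.2

theorem fr3 (x : K) : S.T.fr (S.T.fr (S.T.fr x)) = x := by
  simp only [S.hfr]; exact S.pow_cube x

/-- The orbit coordinates are determined by one of them. -/
theorem orbit15 {L Fr : List ℕ} (hf : TwMax.Free chevD4 L Fr) (hi : TwMax.okImg chevD4 S.T.R L Fr = true)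
    (h15 : 15 ∈ Fr) (h19 : 19 ∈ Fr) {g : GL chevD4.Idx K} (hg : g ∈ (factsD4.tsys K).US L)
    (hgf : g ∈ S.T.fix) :
    TwMax.φ factsD4 L 19 g = -S.T.fr (TwMax.φ factsD4 L 15 g) ∧
      TwMax.φ factsD4 L 16 g = S.T.fr (S.T.fr (TwMax.φ factsD4 L 15 g)) := by
  obtain ⟨i15, s15, i19, s19, -⟩ := graph_D4
  have e1 := TwMax.φ_fixed S.T hf hi hg hgf h15
  have e2 := TwMax.φ_fixed S.T hf hi hg hgf h19
  rw [S.hR, i15, s15] at e1
  rw [S.hR, i19, s19] at e2
  constructor
  · rw [e1]; simp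
  · rw [e2, e1]; simp

/-- An irrational coordinate in the first short orbit. -/
theorem caseA {H : Subgroup (GL chevD4.Idx K)} (hle : TwMax.MS S.data ≤ H) {v : GL chevD4.Idx K}
    (hv : v ∈ (factsD4.tsys K).US (TwMax.qL chevD4)) (hvf : v ∈ S.T.fix) {c : K} (hc : c ≠ 0)
    (hcf : S.T.fr c = c) (hl : v * factsD4.xg (chevD4.neg (SubMax.top chevD4)) c * v⁻¹ ∈ H)
    (hir : S.T.fr (TwMax.φ factsD4 (TwMax.qL chevD4) 15 v) ≠ TwMax.φ factsD4 (TwMax.qL chevD4) 15 v) :
    twistedD4 K q ≤ H := by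
  obtain ⟨J, Ps, -, hfree, himgQ⟩ := S.maxCtx.qfree
  obtain ⟨hq1, hqL⟩ := q1_D4
  obtain ⟨-, -, -, -, -, -, i14, i22, i23, -, -⟩ := graph_D4
  have hlists := okLists_D4
  simp only [Bool.and_eq_true] at hlists
  obtain ⟨⟨⟨⟨⟨h3, h4⟩, h5⟩, h5i⟩, h4i⟩, -⟩ := hlists
  have hF3 := TwMax.free_of_ok h3
  have hF4 := TwMax.free_of_ok h4
  have hF5 := TwMax.free_of_ok h5
  have hconjs := okConjs_D4
  simp only [Bool.and_eq_true] at hconjs
  obtain ⟨⟨⟨⟨⟨⟨c9, c14⟩, c12⟩, c13⟩, c18⟩, -⟩, hdown⟩ := hconjs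
  obtain ⟨s9, s14a, s14b, s14c, s14r, a1, a2, a3, a4, b1, b2, b3, b4, e1, e2, e3, e4⟩ := srcs_D4
  have h14 : (14 : ℕ) ∈ SubMax.q1 chevD4 := by rw [hq1]; decide
  have h15 : (15 : ℕ) ∈ SubMax.q1 chevD4 := by rw [hq1]; decide
  -- remove the coordinate at the first long root
  set t14 := TwMax.φ factsD4 (TwMax.qL chevD4) 14 v with ht14
  have ht14f : S.T.fr t14 = t14 := by
    have := TwMax.φ_fixed S.T hfree himgQ hv hvf h14
    rw [show S.T.R.img 14 = 14 by rw [S.hR]; exact i14,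
      (S.maxCtx.expo (r := 14) (by decide)).2 (by rw [S.hR]; exact i14), Int.cast_one, one_mul] at this
    exact this.symm
  have hmM := S.maxCtx.long_mem (r := 14) (by decide) (by rw [S.hR]; exact i14) (c := -t14)
    (by rw [map_neg, ht14f])
  set v1 := factsD4.xg 14 (-t14) * v with hv1def
  have h14L : (14 : ℕ) ∈ TwMax.qL chevD4 := by rw [hqL]; decide
  have hm14 : factsD4.xg 14 (-t14) ∈ (factsD4.tsys K).US (TwMax.qL chevD4) := CommSys.x_mem_US _ h14L _
  have hv1 : v1 ∈ (factsD4.tsys K).US (TwMax.qL chevD4) := mul_mem hm14 hv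
  have hv1f : v1 ∈ S.T.fix := mul_mem (S.data.le_fix (TwMax.mem_MS.1 hmM).1) hvf
  have hl1 : v1 * factsD4.xg (chevD4.neg (SubMax.top chevD4)) c * v1⁻¹ ∈ H := by
    have := mul_mem (mul_mem (hle hmM) hl) (inv_mem (hle hmM))
    convert this using 1
    rw [hv1def]; group
  have hv114 : TwMax.φ factsD4 (TwMax.qL chevD4) 14 v1 = 0 := by
    rw [hv1def, TwMax.φ_mul hfree h14 hm14 hv, TwMax.φ_x hfree h14 h14L, if_pos rfl, ← ht14, neg_add_cancel]
  have hv115 : TwMax.φ factsD4 (TwMax.qL chevD4) 15 v1 = TwMax.φ factsD4 (TwMax.qL chevD4) 15 v := by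
    rw [hv1def, TwMax.φ_mul hfree h15 hm14 hv, TwMax.φ_x hfree h15 h14L, if_neg (by decide), zero_add]
  have hsub4 : ∀ s ∈ L4, s ∈ TwMax.qL chevD4 := by rw [hqL]; decide
  obtain ⟨hv4, hv4φ⟩ := TwMax.shrink (hF := factsD4) hfree hv1 hF4 hsub4 fun s hs hs' => by
    obtain rfl : s = 14 := by
      have hall : ∀ s ∈ ([14, 15, 16, 17, 19, 20, 21, 22, 23] : List ℕ), s ∉ L4 → s = 14 := by decide
      exact hall s (hqL ▸ hs) hs'
    exact ⟨h14, hv114⟩
  have h43 : ∀ s ∈ L4, s ∈ L3 := by decide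
  have hv3 : v1 ∈ (factsD4.tsys K).US L3 := CommSys.US_mono _ h43 hv4
  have hv3φ : TwMax.φ factsD4 L3 15 v1 = TwMax.φ factsD4 (TwMax.qL chevD4) 15 v := by
    rw [TwMax.φ_mono hF3 hF4 h43 hv4 (by decide) (by decide), hv4φ 15 (by decide) h15, hv115]
  -- the lowered root element
  obtain ⟨ε, hε, hεf, hxε⟩ := TwMax.seen_down S.maxCtx hle hv1 hv1f hc hcf hl1 (b := 22) (f := 9)
    (by rw [hq1]; decide) (by rw [S.hR]; exact i22) (by simpa using hdown)
  have h9M := S.maxCtx.long_mem (r := 9) (by decide) (by rw [S.hR]; rfl) hεf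
  obtain ⟨hW3, hWφ⟩ := TwMax.comm_root (hF := factsD4) hF3 c9 ε hv3
  set W := factsD4.xg 9 ε * v1 * (factsD4.xg 9 ε)⁻¹ * v1⁻¹ with hW
  have hWH : W ∈ H := by
    have := mul_mem (hle h9M) (SubMax.mem_seen.1 (inv_mem hxε))
    convert this using 1
    rw [hW]; group
  have hWf : W ∈ S.T.fix := by
    have hdf := S.data.le_fix (TwMax.mem_MS.1 h9M).1
    exact mul_mem (mul_mem (mul_mem hdf hv1f) (inv_mem hdf)) (inv_mem hv1f)
  have hW12 : TwMax.φ factsD4 L3 12 W = -(ε * TwMax.φ factsD4 (TwMax.qL chevD4) 15 v) := by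
    rw [hWφ 12 (by decide) _ s9 (by decide)]
    simp [TwMax.delta, hv3φ]
  -- the commutator with the long root element
  have h14M := S.maxCtx.long_mem (r := 14) (by decide) (by rw [S.hR]; exact i14) (c := (1 : K)) (map_one _)
  obtain ⟨hV3, hVφ⟩ := TwMax.comm_root (hF := factsD4) hF3 c14 1 hW3
  set V := factsD4.xg 14 1 * W * (factsD4.xg 14 1)⁻¹ * W⁻¹ with hV
  have hVH : V ∈ H := mul_mem (mul_mem (mul_mem (hle h14M) hWH) (inv_mem (hle h14M))) (inv_mem hWH)
  have hVf : V ∈ S.T.fix := by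
    have hdf := S.data.le_fix (TwMax.mem_MS.1 h14M).1
    exact mul_mem (mul_mem (mul_mem hdf hWf) (inv_mem hdf)) (inv_mem hWf)
  obtain ⟨hV4, hV4φ⟩ := TwMax.shrink (hF := factsD4) hF3 hV3 hF4 h43 fun s hs hs' => by
    have hall : ∀ s ∈ L3, s ∉ L4 → s = 12 ∨ s = 13 ∨ s = 18 := by decide
    rcases hall s hs hs' with rfl | rfl | rfl
    · exact ⟨by decide, by rw [hVφ 12 (by decide) _ s14a (by simp)]; simp [TwMax.delta]⟩
    · exact ⟨by decide, by rw [hVφ 13 (by decide) _ s14b (by simp)]; simp [TwMax.delta]⟩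
    · exact ⟨by decide, by rw [hVφ 18 (by decide) _ s14c (by simp)]; simp [TwMax.delta]⟩
  set b := TwMax.φ factsD4 L4 15 V with hb
  have hbeq : b = ε * TwMax.φ factsD4 (TwMax.qL chevD4) 15 v := by
    rw [hb, hV4φ 15 (by decide) (by decide), hVφ 15 (by decide) _ s14r (by decide)]
    simp [TwMax.delta, hW12]
  have hε0 : ε ≠ 0 := fun h0 => by rw [h0, zero_mul] at hε; exact zero_ne_one hε
  have hbir : S.T.fr b ≠ b := by
    rw [hbeq, map_mul, hεf]
    exact fun e => hir (mul_left_cancel₀ hε0 e)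
  -- the commutator with the short simple orbit
  obtain ⟨hg1, hg1φ⟩ := TwMax.conj_root (hF := factsD4) hF4 c18 1 hV4
  obtain ⟨hg2, hg2φ⟩ := TwMax.conj_root (hF := factsD4) hF4 c13 1 hg1
  obtain ⟨hg3, hg3φ⟩ := TwMax.conj_root (hF := factsD4) hF4 c12 1 hg2
  set g1 := factsD4.xg 18 1 * V * (factsD4.xg 18 1)⁻¹ with hg1d
  set g2 := factsD4.xg 13 1 * g1 * (factsD4.xg 13 1)⁻¹ with hg2d
  set g3 := factsD4.xg 12 1 * g2 * (factsD4.xg 12 1)⁻¹ with hg3d
  set X := (factsD4.sys K).prodOver [12, 13, 18] (cB q (1 : K)) with hXd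
  have hX : X ∈ TwMax.MS S.data := by
    rw [hXd, factsD4.prodOver_perm (L' := [18, 13, 12]) (okComm' (by simp)) (by decide)]
    exact S.mem_MS_B (Or.inl rfl) (map_one _)
  have hXe : X = factsD4.xg 12 (1 : K) * factsD4.xg 13 1 * factsD4.xg 18 1 := by
    simp [hXd, CommSys.prodOver, Facts.sys_x, cB, mul_assoc]
  set Y := g3 * V⁻¹ with hY
  have hYH : Y ∈ H := by
    have := mul_mem (mul_mem (mul_mem (hle hX) hVH) (inv_mem (hle hX))) (inv_mem hVH)
    convert this using 1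
    rw [hY, hg3d, hg2d, hg1d, hXe]; group
  have hYf : Y ∈ S.T.fix := by
    have := mul_mem (mul_mem (mul_mem (S.data.le_fix (TwMax.mem_MS.1 hX).1) hVf)
      (inv_mem (S.data.le_fix (TwMax.mem_MS.1 hX).1))) (inv_mem hVf)
    convert this using 1
    rw [hY, hg3d, hg2d, hg1d, hXe]; group
  have hY4 : Y ∈ (factsD4.tsys K).US L4 := mul_mem hg3 (inv_mem hV4)
  have hkeep : ∀ r ∈ Fr4, TwMax.src chevD4 L4 18 r = [] → TwMax.src chevD4 L4 13 r = [] →
      TwMax.src chevD4 L4 12 r = [] → TwMax.φ factsD4 L4 r Y = 0 := by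
    intro r hr k1 k2 k3
    rw [hY, TwMax.φ_mul hF4 hr hg3 (inv_mem hV4), TwMax.φ_inv hF4 hr hV4, hg3φ r hr _ k3 (by simp),
      hg2φ r hr _ k2 (by simp), hg1φ r hr _ k1 (by simp)]
    simp [TwMax.delta]
  have hY17 : TwMax.φ factsD4 L4 17 Y = b + S.T.fr (S.T.fr b) := by
    have h16 := (S.orbit15 hF4 (by rw [S.hR]; exact h4i) (by decide) (by decide) hV4 hVf).2
    rw [hY, TwMax.φ_mul hF4 (by decide) hg3 (inv_mem hV4), TwMax.φ_inv hF4 (by decide) hV4,
      hg3φ 17 (by decide) _ e4 (by decide), hg2φ 17 (by decide) _ b4 (by decide), hg1φ 17 (by decide) _ a3 (by simp)]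
    simp only [TwMax.delta, List.map_cons, List.map_nil, List.sum_cons, List.sum_nil, add_zero, Int.cast_one,
      one_mul]
    rw [hg2φ 16 (by decide) _ b2 (by simp), hg1φ 16 (by decide) _ a2 (by simp),
      hg1φ 15 (by decide) _ a1 (by simp), h16]
    simp only [TwMax.delta, List.map_nil, List.sum_nil, mul_zero, add_zero, ← hb]
    ring
  have hY17ir : S.T.fr (TwMax.φ factsD4 L4 17 Y) ≠ TwMax.φ factsD4 L4 17 Y := by
    rw [hY17, map_add, S.fr3]
    intro e
    apply hbir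
    have h2 : S.T.fr b = S.T.fr (S.T.fr b) := by linear_combination e
    exact (S.T.fr.injective h2).symm
  obtain ⟨hY5, hY5φ⟩ := TwMax.shrink (hF := factsD4) hF4 hY4 hF5 (by decide) fun s hs hs' => by
    have hall : ∀ s ∈ L4, s ∉ L5 → s = 15 ∨ s = 16 ∨ s = 19 := by decide
    rcases hall s hs hs' with rfl | rfl | rfl
    · exact ⟨by decide, hkeep 15 (by decide) a1 b1 e1⟩
    · exact ⟨by decide, hkeep 16 (by decide) a2 b2 e2⟩
    · exact ⟨by decide, hkeep 19 (by decide) a4 b3 e3⟩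
  obtain ⟨y, hy, hyL, hyf, hyi⟩ := TwMax.pure_orbit S.maxCtx hle (P := [17, 20, 21]) (Z := [22, 23]) hF5
    (by rw [S.hR]; exact h5i) (fun s hs => by
      rw [S.hR]; simp only [List.mem_cons, List.not_mem_nil, or_false] at hs
      rcases hs with rfl | rfl
      exacts [i22, i23]) hYH hYf hY5 (p := 17) (by simp) (by
      show S.T.fr (TwMax.φ factsD4 L5 17 Y) ≠ TwMax.φ factsD4 L5 17 Y
      rw [hY5φ 17 (by decide) (by decide)]; exact hY17ir)
  obtain ⟨z, hz, hzL, hzf, hzi⟩ := TwMax.transport S.maxCtx hle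
    (([[1], [0, 2, 3]] : List (List ℕ)).map (fnodes chevD4)) (L1 := [12, 13, 18])
    (fun ω hω => hω) act_D4.2.2 hy hyL hyf hyi
  exact S.all_of_short hle hz hzL hzf hzi

theorem maxExtract : TwMax.Extract S.data := by
  intro H hle hH v hv hvf c hc hcf hl
  refine or_iff_not_imp_left.2 fun hnf => ?_
  obtain ⟨J, Ps, -, hfree, himgQ⟩ := S.maxCtx.qfree
  obtain ⟨hq1, hqL⟩ := q1_D4
  obtain ⟨i15, s15, i19, s19, i16, s16, i14, i22, -, -, hneg⟩ := graph_D4
  have h15 : (15 : ℕ) ∈ SubMax.q1 chevD4 := by rw [hq1]; decide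
  have h19 : (19 : ℕ) ∈ SubMax.q1 chevD4 := by rw [hq1]; decide
  have hA : ∀ w ∈ (factsD4.tsys K).US (TwMax.qL chevD4), w ∈ S.T.fix → ∀ c : K, c ≠ 0 → S.T.fr c = c →
      w * factsD4.xg (chevD4.neg (SubMax.top chevD4)) c * w⁻¹ ∈ H → ∀ r ∈ ([15, 16, 19] : List ℕ),
        S.T.fr (TwMax.φ factsD4 (TwMax.qL chevD4) r w) = TwMax.φ factsD4 (TwMax.qL chevD4) r w := by
    intro w hw hwf c hc hcf hl
    have ha : S.T.fr (TwMax.φ factsD4 (TwMax.qL chevD4) 15 w) = TwMax.φ factsD4 (TwMax.qL chevD4) 15 w := by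
      by_contra h
      exact hnf (S.caseA hle hw hwf hc hcf hl h)
    obtain ⟨e19, e16⟩ := S.orbit15 hfree himgQ h15 h19 hw hwf
    intro r hr
    simp only [List.mem_cons, List.not_mem_nil, or_false] at hr
    rcases hr with rfl | rfl | rfl
    · exact ha
    · simp only [e16, ha]
    · simp only [e19, map_neg, ha]
  intro r hr
  have hlt := (SubMax.q1_pos hr).2
  have hrl : r ∈ ([14, 15, 16, 17, 19, 20, 21, 22] : List ℕ) := hq1 ▸ hr
  by_cases hfixr : graphD4a.img r = r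
  · have hfix := TwMax.φ_fixed S.T hfree himgQ hv hvf hr
    have himg : S.T.R.img r = r := by rw [S.hR]; exact hfixr
    rw [himg, (S.maxCtx.expo hlt).2 himg, Int.cast_one, one_mul] at hfix
    exact hfix.symm
  by_cases hr1 : r ∈ ([15, 16, 19] : List ℕ)
  · exact hA v hv hvf c hc hcf hl r hr1
  have hr2 : r ∈ ([17, 20, 21] : List ℕ) := by
    simp only [List.mem_cons, List.not_mem_nil, or_false] at hrl hr1 ⊢
    rcases hrl with rfl | rfl | rfl | rfl | rfl | rfl | rfl | rfl <;> simp_all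
  set ω : List (Fin chevD4.rank) := fnodes chevD4 [0, 2, 3] with hωd
  have hω : ω ∈ Os := by simp [Os, hωd]
  have hn := S.maxCtx.nw_mem ω hω
  have hconjs := okConjs_D4
  simp only [Bool.and_eq_true] at hconjs
  obtain ⟨hmem, hφ⟩ := TwMax.φ_nw (hF := factsD4) hfree hconjs.1.2 hv
  obtain ⟨e, he, hec⟩ := TwMax.nw_conj_root (hF := factsD4) (F := K) ω r hlt
  obtain ⟨f, hf, hfc⟩ := TwMax.nw_conj_root (hF := factsD4) (F := K) ω 0 (by decide)
  rw [act_D4.2.1] at hfc
  set n := (factsD4.tsys K).nw ω with hnd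
  have hl' : n * v * n⁻¹ * factsD4.xg (chevD4.neg (SubMax.top chevD4)) (f * c) * (n * v * n⁻¹)⁻¹ ∈ H := by
    have h0 := mul_mem (mul_mem (hle hn) hl) (inv_mem (hle hn))
    rw [hneg] at h0 ⊢
    rw [← hfc c]
    convert h0 using 1
    group
  have hff : S.T.fr f = f := by rcases mul_self_eq_one_iff.1 hf with rfl | rfl <;> simp
  have hee : S.T.fr e = e := by rcases mul_self_eq_one_iff.1 he with rfl | rfl <;> simp
  have hf0 : f ≠ 0 := fun h0 => by rw [h0, zero_mul] at hf; exact zero_ne_one hf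
  have he0 : e ≠ 0 := fun h0 => by rw [h0, zero_mul] at he; exact zero_ne_one he
  have hrot : actR chevD4 (ω.map Fin.val) r ∈ ([15, 16, 19] : List ℕ) := by
    have h := act_D4.1
    simp only [List.all_eq_true, List.contains_iff_mem] at h
    simp only [List.mem_cons, List.not_mem_nil, or_false] at hr2
    rcases hr2 with rfl | rfl | rfl
    · exact h (17, [15, 16, 19]) (by simp)
    · exact h (20, [15, 16, 19]) (by simp)
    · exact h (21, [15, 16, 19]) (by simp)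
  have hnf' := S.data.le_fix (TwMax.mem_MS.1 hn).1
  have := hA _ hmem (mul_mem (mul_mem hnf' hvf) (inv_mem hnf')) (f * c) (mul_ne_zero hf0 hc)
    (by rw [map_mul, hff, hcf]) hl' _ hrot
  rw [hφ r hr e hec, map_mul, hee] at this
  exact mul_left_cancel₀ he0 this

theorem overgroups {H : Subgroup (GL chevD4.Idx K)} (hle : TwMax.MS S.data ≤ H) (hH : H ≤ twistedD4 K q) :
    H = TwMax.MS S.data ∨ H = twistedD4 K q :=
  TwMax.overgroup S.maxCtx (gens := maxGens) (by rw [S.hR]; exact okGens_D4) S.maxExtract hle hH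

theorem MS_ne : TwMax.MS S.data ≠ twistedD4 K q := by
  intro e
  obtain ⟨t, ht⟩ : ∃ t : K, S.T.fr t ≠ t := by
    by_contra hall
    rw [not_exists] at hall
    have h1 : Nat.card (S.T.fr.eqLocusField (RingHom.id K)) = Nat.card K :=
      Nat.card_congr (Equiv.subtypeUnivEquiv fun x => not_not.1 (hall x))
    have h2 := S.card_fixed
    rw [h1, ← Nat.card_eq_fintype_card] at h2
    have h3 : 1 < Nat.card K := Finite.one_lt_card
    have h4 : Nat.card K ^ 1 < Nat.card K ^ 3 := Nat.pow_lt_pow_right h3 (by norm_num)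
    rw [pow_one, ← h2] at h4
    exact lt_irrefl _ h4
  have hmem := S.B_mem (Or.inl rfl) t
  rw [← e] at hmem
  have hm := okLists_D4
  simp only [Bool.and_eq_true] at hm
  have hfree := TwMax.free_of_ok hm.2
  have hperm : (factsD4.sys K).prodOver [18, 13, 12] (cB q t) = (factsD4.sys K).prodOver [12, 13, 18] (cB q t) :=
    factsD4.prodOver_perm (okComm' (by simp)) (by decide) _
  have h := (TwMax.mem_MS.1 hmem).2
  rw [hperm] at h
  have hφ := TwMax.φ_gmap (hF := factsD4) hfree (r := 18) (by simp) S.T.fr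
    (g := (factsD4.sys K).prodOver [12, 13, 18] (cB q t)) (CommSys.prodOver_mem _ [12, 13, 18] (cB q t))
  rw [h, TwMax.φ_prodOver hfree (by simp) _ (by simp) (fun _ h => h)] at hφ
  exact ht (by simpa [cB] using hφ.symm)

end Setup

end Cfsg.Agent.Lie.D4
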