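import Cfsg.Agent.Lib.Lie.TwMax.Extract
import Cfsg.Agent.Lib.Lie.TwistE6

/-!
The subfield subgroup of the twisted group of type ²E₆.
-/

set_option autoImplicit false
set_option maxRecDepth 100000

namespace Cfsg.Agent.Lie.E6

open Cfsg.Lie Matrix
open scoped MatrixGroups

/-- The nodes orthogonal to the highest root. -/
def maxJ : List (Fin chevE6.rank) := fnodes chevE6 [0, 2, 3, 4, 5]

/-- The orbits in level one. -/
def maxPs : List (List ℕ) := [[46], [47], [48, 50], [49, 61], [51], [52, 62], [53], [54, 64], [55, 67],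
  [63], [65], [66, 68], [69], [70]]

theorem okBase_E6 : TwMax.okBase chevE6 graphE6 = true := by decide +kernel

theorem okClimb_E6 : TwMax.okClimb chevE6 graphE6 Os = true := by decide +kernel

theorem okQ_E6 : TwMax.okQ chevE6 graphE6 maxJ maxPs = true := by decide +kernel

/-- Commutators giving the two nodes of each short orbit of simple roots. -/
def maxGens : List (ℕ × ℕ × List (ℕ × ℤ)) :=
  [(0, 18, [(54, 1), (64, -1)]), (5, 18, [(54, 1), (64, -1)]), (2, 6, [(66, 1), (68, 1)]), (4, 6, [(66, 1), (68, 1)])]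

theorem okGens_E6 : TwMax.okGens chevE6 graphE6 maxGens = true := by decide +kernel

/-- Extraction data: d, e, b, the root below b, the orbit moved, its image, and the way to the simple orbit. -/
def maxSides : List (ℕ × ℕ × ℕ × ℕ × ℕ × List ℕ × List (List ℕ)) :=
  [(39, 47, 70, 25, 52, [54, 64], [[2, 4], [3], [2, 4], [1], [3]]),
   (44, 51, 70, 25, 49, [55, 67], [[2, 4], [3], [2, 4], [1], [3], [2, 4]]),
   (60, 63, 70, 25, 48, [66, 68], [[2, 4], [3], [2, 4], [1], [3], [2, 4], [0, 5]]),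
   (32, 46, 69, 24, 54, [52, 62], [[2, 4], [3], [2, 4], [1]]),
   (27, 46, 65, 20, 55, [49, 61], [[2, 4], [3], [1]]),
   (11, 46, 53, 8, 66, [48, 50], [[2, 4], [0, 5], [3], [1]])]

/-- The table for one line of the extraction data. -/
def okSide (x : ℕ × ℕ × ℕ × ℕ × ℕ × List ℕ × List (List ℕ)) : Bool :=
  match x with
  | (d, e, b, f, s, P, ws) =>
    (SubMax.q1 chevE6).contains e && graphE6.img e == e && (SubMax.q1 chevE6).contains b && graphE6.img b == b &&
    (SubMax.oneTerm (TwMax.tms chevE6 (chevE6.neg (SubMax.top chevE6)) b) f &&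
      b != chevE6.neg (chevE6.neg (SubMax.top chevE6))) &&
    SubMax.oneTerm (TwMax.tms chevE6 e f) d && decide (f < 72) && f != chevE6.neg e && decide (d < 72) &&
    graphE6.img d == d && TwMax.okConj chevE6 (TwMax.qL chevE6) d && P.length == 2 &&
    TwMax.okFree chevE6 (P ++ [71]) (P ++ [71]) && TwMax.okImg chevE6 graphE6 (P ++ [71]) (P ++ [71]) &&
    P.all (fun p => (SubMax.q1 chevE6).contains p) && (SubMax.q1 chevE6).contains s &&
    (SubMax.q1 chevE6).all (fun r => P.contains r || graphE6.img r == r || (TwMax.src chevE6 (TwMax.qL chevE6) d r).isEmpty) &&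
    P.all (fun p => graphE6.img p != p) &&
    (match TwMax.src chevE6 (TwMax.qL chevE6) d (P.getD 0 0) with
      | [(s', N)] => s' == s && N.natAbs == 1
      | _ => false) &&
    (ws.all fun ω => Os.contains (fnodes chevE6 ω)) &&
    P.all fun p => decide (p < chevE6.nroots) &&
      ([36, 56] : List ℕ).contains (actR chevE6 (((ws.map (fnodes chevE6)).flatten).map Fin.val) p)

theorem okSides_E6 : maxSides.all okSide = true := by decide +kernel

theorem okReps_E6 : ((SubMax.q1 chevE6).all fun r => graphE6.img r == r ||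
    maxSides.any fun x => x.2.2.2.2.1 == r || x.2.2.2.2.1 == graphE6.img r) = true := by decide +kernel

theorem okMove_E6 : ((([36, 56] : List ℕ).all fun s => decide (s < chevE6.nroots) &&
    ([37, 42] : List ℕ).contains (actR chevE6 (((([[0, 5], [2, 4]] : List (List ℕ)).map (fnodes chevE6)).flatten).map Fin.val) s)) &&
    TwMax.okFree chevE6 [36, 56] [36, 56] && TwMax.okFree chevE6 [37, 42] [37, 42]) = true := by decide +kernel

variable {K : Type*} [Field K] [Fintype K] {q : ℕ}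

namespace Setup

variable (S : Setup K q)

include S

theorem maxCtx : TwMax.Ctx S.data where
  base := by rw [S.hR]; exact okBase_E6
  climb := by rw [S.hR]; exact okClimb_E6
  quad := ⟨maxJ, maxPs, by rw [S.hR]; exact okQ_E6⟩
  nw_mem := TwMax.nw_mem_of fun ω hω => by
    have hs := List.mem_map_of_mem (f := fun ω => Twist.simples chevE6 ω) hω
    rw [simplesLs] at hs
    simp only [List.mem_cons, List.not_mem_nil, or_false] at hs
    have hm1 : ((-1 : K)) ^ q = -1 := by rw [← S.hfr, map_neg, map_one]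
    have hcc : ∀ L ∈ ([[46], [39], [56, 36], [42, 37]] : List (List ℕ)), okComm2 chevE6 L = true := by
      decide +kernel
    rcases hs with h | h | h | h <;> rw [h]
    · exact ⟨by decide, hcc _ (by simp), okComm' (by simp [Ls]), S.stable (by simp [Ls]), by
        simpa [show chevE6.neg 46 = 25 from rfl, Setup.data] using A_mem (r := 25) (by simp) hm1⟩
    · exact ⟨by decide, hcc _ (by simp), okComm' (by simp [Ls]), S.stable (by simp [Ls]), by
        simpa [show chevE6.neg 39 = 32 from rfl, Setup.data] using A_mem (r := 32) (by simp) hm1⟩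
    · exact ⟨by decide, hcc _ (by simp), okComm' (by simp [Ls]), S.stable (by simp [Ls]), by
        simpa [CommSys.prodOver, Facts.sys_x, cB, hm1, show chevE6.neg 56 = 15 from rfl, Setup.data,
          show chevE6.neg 36 = 35 from rfl] using B_mem (q := q) (a := 15) (b := 35) (by simp) (-1 : K)⟩
    · exact ⟨by decide, hcc _ (by simp), okComm' (by simp [Ls]), S.stable (by simp [Ls]), by
        simpa [CommSys.prodOver, Facts.sys_x, cB, hm1, show chevE6.neg 42 = 29 from rfl, Setup.data,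
          show chevE6.neg 37 = 34 from rfl] using B_mem (q := q) (a := 29) (b := 34) (by simp) (-1 : K)⟩

theorem mem_MS_B {a b : ℕ} (h : (a, b) ∈ ([(56, 36), (42, 37), (15, 35), (29, 34)] : List (ℕ × ℕ))) {μ : K}
    (hμ : S.T.fr μ = μ) : (factsE6.sys K).prodOver [a, b] (cB q μ) ∈ TwMax.MS S.data := by
  refine TwMax.mem_MS.2 ⟨B_mem h μ, ?_⟩
  have hμq : μ ^ q = μ := by rw [← S.hfr, hμ]
  rw [TwMax.gmap_prodOver]
  refine CommSys.prodOver_congr _ fun r _ => ?_
  unfold cB
  split <;> simp only [hμq, hμ]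

theorem card_fixed : Fintype.card K = Nat.card (S.T.fr.eqLocusField (RingHom.id K)) ^ 2 := by
  rw [← Nat.card_eq_fintype_card, S.hK]
  congr 1
  refine (card_pow_eq_self (q := q) (F := K) S.hq S.hK).symm.trans ?_
  exact Nat.card_congr (Equiv.subtypeEquivRight fun x => by rw [← S.hfr]; exact Iff.rfl)

/-- An irrational element in a simple orbit gives both signs of the orbit. -/
theorem pair_full {H : Subgroup (GL chevE6.Idx K)} (hle : TwMax.MS S.data ≤ H) {a b a' b' : ℕ}
    (h : (a = 56 ∧ b = 36 ∧ a' = 15 ∧ b' = 35) ∨ (a = 42 ∧ b = 37 ∧ a' = 29 ∧ b' = 34))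
    {y : GL chevE6.Idx K} (hy : y ∈ H) (hyL : y ∈ (factsE6.tsys K).US [b, a]) (hyf : y ∈ S.T.fix)
    (hyi : gmap S.T.fr y ≠ y) :
    ∀ μ, (factsE6.sys K).prodOver [a, b] (cB q μ) ∈ H ∧ (factsE6.sys K).prodOver [a', b'] (cB q μ) ∈ H := by
  have hcl : ClosedList chevE6 [b, a] := by
    have hm := okMove_E6
    simp only [Bool.and_eq_true] at hm
    rcases h with ⟨rfl, rfl, -⟩ | ⟨rfl, rfl, -⟩
    exacts [(TwMax.free_of_ok hm.1.2).cl, (TwMax.free_of_ok hm.2).cl]
  obtain ⟨t, rfl⟩ := S.fix_B (by rcases h with ⟨rfl, rfl, -⟩ | ⟨rfl, rfl, -⟩ <;> simp) hcl hyL hyf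
  have hnd : (([(a, RingHom.id K), (b, S.T.fr)] : List (ℕ × (K →+* K))).map Prod.fst).Nodup := by
    rcases h with ⟨rfl, rfl, -⟩ | ⟨rfl, rfl, -⟩ <;> simp
  have hc2 : okComm2 chevE6 (([(a, RingHom.id K), (b, S.T.fr)] : List (ℕ × (K →+* K))).map Prod.fst) = true := by
    have hcc : ∀ L ∈ ([[56, 36], [42, 37]] : List (List ℕ)), okComm2 chevE6 L = true := by decide +kernel
    rcases h with ⟨rfl, rfl, -⟩ | ⟨rfl, rfl, -⟩ <;> exact hcc _ (by simp)
  obtain ⟨Ψ, hΨ, -⟩ := TwMax.exists_orbitHom (hF := factsE6) _ hnd hc2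
  have hup : ∀ μ, Ψ (upS μ) = (factsE6.sys K).prodOver [a, b] (cB q μ) ∧
      Ψ (loS μ) = (factsE6.sys K).prodOver [a', b'] (cB q μ) := by
    intro μ
    rcases h with ⟨rfl, rfl, rfl, rfl⟩ | ⟨rfl, rfl, rfl, rfl⟩
    · simp [(hΨ μ).1, (hΨ μ).2, CommSys.prodOver, Facts.wg, Facts.sys_x, cB, S.hfr,
        show chevE6.neg 56 = 15 from rfl, show chevE6.neg 36 = 35 from rfl]
    · simp [(hΨ μ).1, (hΨ μ).2, CommSys.prodOver, Facts.wg, Facts.sys_x, cB, S.hfr,
        show chevE6.neg 42 = 29 from rfl, show chevE6.neg 37 = 34 from rfl]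
  have hti : S.T.fr t ≠ t := fun e => hyi (TwMax.mem_MS.1 (S.mem_MS_B
    (by rcases h with ⟨rfl, rfl, -⟩ | ⟨rfl, rfl, -⟩ <;> simp) e)).2
  have hfull := TwMax.rank_one_full (X := S.data) Nat.prime_two (K₀ := S.T.fr.eqLocusField (RingHom.id K))
    (fun x => Iff.rfl) S.card_fixed Ψ (fun μ hμ => by
      rw [(hup μ).1, (hup μ).2]
      rcases h with ⟨rfl, rfl, rfl, rfl⟩ | ⟨rfl, rfl, rfl, rfl⟩ <;>
        exact ⟨S.mem_MS_B (by simp) hμ, S.mem_MS_B (by simp) hμ⟩) hle hti (by rwa [(hup t).1])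
  intro μ
  have := hfull μ
  rwa [(hup μ).1, (hup μ).2] at this

/-- An irrational element in the first short simple orbit gives everything. -/
theorem all_of_short {H : Subgroup (GL chevE6.Idx K)} (hle : TwMax.MS S.data ≤ H)
    {y : GL chevE6.Idx K} (hy : y ∈ H) (hyL : y ∈ (factsE6.tsys K).US [36, 56]) (hyf : y ∈ S.T.fix)
    (hyi : gmap S.T.fr y ≠ y) : twistedE6 K q ≤ H := by
  have h1 := S.pair_full hle (Or.inl ⟨rfl, rfl, rfl, rfl⟩) hy hyL hyf hyi
  have hm := okMove_E6
  rw [Bool.and_eq_true, Bool.and_eq_true] at hm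
  obtain ⟨z, hz, hzL, hzf, hzi⟩ := TwMax.transport S.maxCtx hle
    (([[0, 5], [2, 4]] : List (List ℕ)).map (fnodes chevE6)) (by simp [Os]) hm.1.1 hy hyL hyf hyi
  have h2 := S.pair_full hle (Or.inr ⟨rfl, rfl, rfl, rfl⟩) hz hzL hzf hzi
  refine (Subgroup.closure_le _).2 ?_
  rintro g ⟨w, hw, hg⟩
  rw [show g = factsE6.wg w from Units.ext (by rw [hg, factsE6.coe_wg])]
  rcases hw with ⟨t, ht, r, hr, rfl⟩ | ⟨t, ⟨a, b⟩, hrs, rfl⟩
  · have hr' : r ∈ ([46, 39, 25, 32] : List ℕ) := by simp [e6p2, e6m2, e6p4, e6m4] at hr ⊢; omega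
    have htab : ∀ r ∈ ([46, 39, 25, 32] : List ℕ), r < chevE6.nroots ∧ graphE6.img r = r := by decide
    obtain ⟨hlt, himg'⟩ := htab r hr'
    have himg : S.T.R.img r = r := by rw [S.hR]; exact himg' 
    simpa [Facts.wg] using hle (S.maxCtx.long_mem hlt himg (c := t) (by rw [S.hfr, ht]))
  · have h : (a, b) ∈ ([(56, 36), (42, 37), (15, 35), (29, 34)] : List (ℕ × ℕ)) := by
      simp [e6p1, e6p6, e6m1, e6m6, e6p3, e6p5, e6m3, e6m5] at hrs ⊢; omega
    simp only [List.mem_cons, List.not_mem_nil, or_false, Prod.mk.injEq] at h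
    rcases h with ⟨rfl, rfl⟩ | ⟨rfl, rfl⟩ | ⟨rfl, rfl⟩ | ⟨rfl, rfl⟩
    · simpa [Facts.wg, CommSys.prodOver, Facts.sys_x, cB] using (h1 t).1
    · simpa [Facts.wg, CommSys.prodOver, Facts.sys_x, cB] using (h2 t).1
    · simpa [Facts.wg, CommSys.prodOver, Facts.sys_x, cB] using (h1 t).2
    · simpa [Facts.wg, CommSys.prodOver, Facts.sys_x, cB] using (h2 t).2

theorem maxExtract : TwMax.Extract S.data := by
  intro H hle hH v hv hvf c hc hcf hl
  refine or_iff_not_imp_left.2 fun hnf r hr => ?_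
  by_contra hir
  apply hnf
  obtain ⟨J, Ps, -, hfree, himgQ⟩ := S.maxCtx.qfree
  have hcase := okReps_E6
  simp only [List.all_eq_true, Bool.or_eq_true, beq_iff_eq, List.any_eq_true] at hcase
  have hfix := TwMax.φ_fixed S.T hfree himgQ hv hvf hr
  have hlt := (SubMax.q1_pos hr).2
  rcases hcase r hr with hrf | ⟨x, hx, hxr⟩
  · exfalso
    have himg : S.T.R.img r = r := by rw [S.hR]; exact hrf
    rw [himg, (S.maxCtx.expo hlt).2 himg, Int.cast_one, one_mul] at hfix
    exact hir hfix.symm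
  obtain ⟨d, e, b, f, s, P, ws⟩ := x
  have htab := List.all_eq_true.1 okSides_E6 _ hx
  simp only [okSide, Bool.and_eq_true, beq_iff_eq, bne_iff_ne, decide_eq_true_eq, List.contains_iff_mem,
    List.all_eq_true, Bool.or_eq_true, List.isEmpty_iff] at htab
  obtain ⟨⟨⟨⟨⟨⟨⟨⟨⟨⟨⟨⟨⟨⟨⟨⟨⟨⟨⟨⟨he, hei⟩, hb⟩, hbi⟩, hdown⟩, hup⟩, hflt⟩, hfe⟩, hdlt⟩, hdi⟩, hconj⟩, hPlen⟩,
    hPfree⟩, hPimg⟩, hPq⟩, hs⟩, hsrc0⟩, hPmov⟩, hsrc⟩, hws⟩, htr⟩ := htab
  -- the moved coordinate is irrational
  have hsir : S.T.fr (TwMax.φ factsE6 (TwMax.qL chevE6) s v) ≠ TwMax.φ factsE6 (TwMax.qL chevE6) s v := by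
    rcases hxr with rfl | hxr
    · exact hir
    · subst hxr
      intro e'
      apply hir
      rw [show graphE6.img r = S.T.R.img r by rw [S.hR], hfix] at e'
      rw [map_mul, map_intCast] at e'
      refine S.T.fr.injective (mul_left_cancel₀ (fun h0 => ?_) e')
      have : (chevE6.nroots = 72) := rfl
      have hsg : ∀ r < 72, graphE6.sign r * graphE6.sign r = 1 := by decide +kernel
      have h1 : ((S.T.R.sign r : K)) * (S.T.R.sign r : K) = 1 := by
        rw [← Int.cast_mul, S.hR, hsg r (by omega), Int.cast_one]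
      rw [h0, zero_mul] at h1
      exact zero_ne_one h1
  -- the seen root element of level zero
  obtain ⟨ε, hε, hεf, hxf⟩ := TwMax.seen_down S.maxCtx hle hv hvf hc hcf hl hb (by rw [S.hR]; exact hbi)
    (by simpa using hdown) (f := f)
  obtain ⟨N, hN, htm⟩ := SubMax.oneTerm_spec hup
  have hxe := TwMax.seen_side S.maxCtx hle hv hvf he (by rw [S.hR]; exact hei) (map_one S.T.fr)
  have hxd := TwMax.step_mem (hF := factsE6) (SubMax.q1_pos he).2 hflt hfe htm hxe hxf
  rw [mul_one] at hxd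
  set δ : K := (N : K) * ε with hδ
  have hδf : S.T.fr δ = δ := by rw [hδ, map_mul, map_intCast, hεf]
  have hδ0 : δ ≠ 0 := fun h0 => by
    have h1 : δ * δ = 1 := by rw [hδ]; linear_combination (ε * ε) * SubMax.natAbs_one_cast hN K + hε
    rw [h0, zero_mul] at h1
    exact zero_ne_one h1
  have hdimg : S.T.R.img d = d := by rw [S.hR]; exact hdi
  have hxdM := S.maxCtx.long_mem hdlt hdimg hδf
  obtain ⟨hWQ, hWφ⟩ := TwMax.comm_root (hF := factsE6) hfree hconj δ hv
  set W := factsE6.xg d δ * v * (factsE6.xg d δ)⁻¹ * v⁻¹ with hW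
  have hWH : W ∈ H := by
    have := mul_mem (hle hxdM) (SubMax.mem_seen.1 (inv_mem hxd))
    convert this using 1
    rw [hW]; group
  have hWf : W ∈ S.T.fix := by
    have hdf := S.data.le_fix (TwMax.mem_MS.1 hxdM).1
    exact mul_mem (mul_mem (mul_mem hdf hvf) (inv_mem hdf)) (inv_mem hvf)
  have hP71 := TwMax.free_of_ok hPfree
  obtain ⟨W', hW'H, hW'f, hW'Q, hW'φ⟩ := TwMax.strip_fixed S.maxCtx hle hWH hWf hWQ
    (Z := (SubMax.q1 chevE6).filter fun x => graphE6.img x == x) ((SubMax.q1_nodup factsE6).filter _)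
    (fun x hx => ⟨(List.mem_filter.1 hx).1, by rw [S.hR]; simpa using (List.mem_filter.1 hx).2⟩)
  obtain ⟨hWL, hWLφ⟩ := TwMax.shrink (hF := factsE6) hfree hW'Q hP71 (fun x hx => by
      rcases List.mem_append.1 hx with hx | hx
      · exact List.mem_append_left _ (hPq x hx)
      · exact List.mem_append_right _ hx) fun x hx hx' => by
    rcases List.mem_append.1 hx with hx | hx
    · refine ⟨hx, ?_⟩
      rw [hW'φ x hx]
      split
      · rfl
      next hnz =>
      have hnf : graphE6.img x ≠ x := fun h => hnz (List.mem_filter.2 ⟨hx, by simpa using h⟩)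
      rw [hWφ x hx [] (((hsrc0 x hx).resolve_left fun h => h.elim
        (fun h => hx' (List.mem_append_left _ h)) hnf)) (by simp)]
      simp [TwMax.delta]
    · exact absurd (List.mem_append_right _ hx) hx'
  obtain ⟨p, hp, hp0⟩ : ∃ p, p ∈ P ∧ P.getD 0 0 = p := by
    rcases P with _ | ⟨p, P⟩
    · simp at hPlen
    · exact ⟨p, List.mem_cons_self, rfl⟩
  rw [hp0] at hsrc
  revert hsrc
  generalize hl' : TwMax.src chevE6 (TwMax.qL chevE6) d p = l
  intro hsrc
  match l, hsrc with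
  | [(s', M)], hsrc =>
  simp only [Bool.and_eq_true, beq_iff_eq] at hsrc
  obtain ⟨rfl, hM⟩ := hsrc
  have hpir : S.T.fr (TwMax.φ factsE6 (P ++ [71]) p W') ≠ TwMax.φ factsE6 (P ++ [71]) p W' := by
    rw [hWLφ p (List.mem_append_left _ hp) (hPq p hp), hW'φ p (hPq p hp),
      if_neg (fun h => hPmov p hp (by simpa using (List.mem_filter.1 h).2)),
      hWφ p (hPq p hp) _ hl' (by simpa using hs)]
    simp only [TwMax.delta, List.map_cons, List.map_nil, List.sum_cons, List.sum_nil, add_zero, map_mul,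
      map_intCast, hδf]
    intro e'
    exact hsir (mul_left_cancel₀ (fun h0 => by
      have := SubMax.natAbs_one_cast hM K
      rw [h0, zero_mul] at this
      exact zero_ne_one this) (mul_left_cancel₀ hδ0 e'))
  obtain ⟨y, hy, hyL, hyf, hyi⟩ := TwMax.pure_orbit S.maxCtx hle hP71 (by rw [S.hR]; exact hPimg)
    (fun x hx => by rw [List.mem_singleton] at hx; subst hx; rw [S.hR]; rfl) hW'H hW'f hWL hp hpir
  obtain ⟨z, hz, hzL, hzf, hzi⟩ := TwMax.transport S.maxCtx hle (ws.map (fnodes chevE6))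
    (fun ω hω => by obtain ⟨w, hw, rfl⟩ := List.mem_map.1 hω; exact hws w hw)
    (L1 := [36, 56]) (by simpa [List.all_eq_true] using htr) hy hyL hyf hyi
  exact S.all_of_short hle hz hzL hzf hzi

theorem overgroups {H : Subgroup (GL chevE6.Idx K)} (hle : TwMax.MS S.data ≤ H) (hH : H ≤ twistedE6 K q) :
    H = TwMax.MS S.data ∨ H = twistedE6 K q :=
  TwMax.overgroup S.maxCtx (gens := maxGens) (by rw [S.hR]; exact okGens_E6) S.maxExtract hle hH

theorem MS_ne : TwMax.MS S.data ≠ twistedE6 K q := by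
  intro e
  obtain ⟨t, ht⟩ : ∃ t : K, S.T.fr t ≠ t := by
    by_contra hall
    rw [not_exists] at hall
    have h1 : Nat.card (S.T.fr.eqLocusField (RingHom.id K)) = Nat.card K :=
      Nat.card_congr (Equiv.subtypeUnivEquiv fun x => not_not.1 (hall x))
    have h2 := S.card_fixed
    rw [h1, ← Nat.card_eq_fintype_card] at h2
    have h3 : 1 < Nat.card K := Finite.one_lt_card
    nlinarith
  have hmem := B_mem (q := q) (a := 56) (b := 36) (by simp) t
  rw [← e] at hmem
  have hm := okMove_E6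
  simp only [Bool.and_eq_true] at hm
  have hfree := TwMax.free_of_ok hm.1.2
  have hperm : (factsE6.sys K).prodOver [56, 36] (cB q t) = (factsE6.sys K).prodOver [36, 56] (cB q t) :=
    factsE6.prodOver_perm (okComm' (by simp [Ls])) (List.Perm.swap _ _ _) _
  have h := (TwMax.mem_MS.1 hmem).2
  rw [hperm] at h
  have hφ := TwMax.φ_gmap (hF := factsE6) hfree (r := 56) (by simp) S.T.fr
    (g := (factsE6.sys K).prodOver [36, 56] (cB q t)) (CommSys.prodOver_mem _ [36, 56] (cB q t))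
  rw [h, TwMax.φ_prodOver hfree (by simp) _ (by simp) (fun _ h => h)] at hφ
  exact ht (by simpa [cB] using hφ.symm)

end Setup

end Cfsg.Agent.Lie.E6
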