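import Cfsg.Agent.Lib.Lie.TwMax.Frame
import Cfsg.Agent.Lib.Lie.SubMax.Full

/-!
An irrational element in the subgroup of an orbit gives its whole rank one subgroup.
-/

set_option autoImplicit false

namespace Cfsg.Agent.Lie.TwMax

open Cfsg.Lie Matrix
open scoped MatrixGroups

variable {D : ChevalleyDatum} {F : Type*} [Field F] {hF : Facts D}

/-- A homomorphism from SL₂ into commuting rank one subgroups. -/
theorem exists_orbitHom : ∀ L : List (ℕ × (F →+* F)), (L.map Prod.fst).Nodup →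
    okComm2 D (L.map Prod.fst) = true →
    ∃ Ψ : Matrix.SpecialLinearGroup (Fin 2) F →* GL D.Idx F,
      (∀ μ, Ψ (upS μ) = hF.wg (L.map fun p => (p.1, p.2 μ)) ∧
        Ψ (loS μ) = hF.wg (L.map fun p => (D.neg p.1, p.2 μ))) ∧
      Ψ.range ≤ Subgroup.closure {g | ∃ p ∈ L, ∃ t, hF.xg p.1 t = g ∨ hF.xg (D.neg p.1) t = g} := by
  intro L
  induction L with
  | nil => exact fun _ _ => ⟨1, fun μ => by simp [hF.wg_nil], by simp [MonoidHom.range_one]⟩
  | cons p L ih =>
    intro hnd hc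
    obtain ⟨hp, hnd'⟩ := List.nodup_cons.1 hnd
    have hc' : okComm2 D (L.map Prod.fst) = true := by
      simp only [okComm2, List.all_eq_true, Bool.and_eq_true, List.map_cons] at hc ⊢
      exact fun r hr => ⟨(hc r (List.mem_cons_of_mem _ hr)).1,
        fun s hs => (hc r (List.mem_cons_of_mem _ hr)).2 s (List.mem_cons_of_mem _ hs)⟩
    obtain ⟨Ψ, hΨ, hrange⟩ := ih hnd' hc'
    have hlt : p.1 < D.nroots := by
      simp only [okComm2, List.all_eq_true, Bool.and_eq_true, decide_eq_true_eq, List.map_cons] at hc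
      exact (hc p.1 List.mem_cons_self).1
    obtain ⟨φ, hφr, hφ⟩ := hF.exists_sl2Hom (F := F) p.1 hlt
    set φ' := φ.comp (Matrix.SpecialLinearGroup.map p.2) with hφ'
    have hup : ∀ μ, φ' (upS μ) = hF.xg p.1 (p.2 μ) ∧ φ' (loS μ) = hF.xg (D.neg p.1) (p.2 μ) := by
      intro μ
      have e1 : Matrix.SpecialLinearGroup.map p.2 (upS μ) = upS (p.2 μ) := by
        ext i j
        show p.2 ((upS μ).1 i j) = _
        fin_cases i <;> fin_cases j <;> simp [upS]
      have e2 : Matrix.SpecialLinearGroup.map p.2 (loS μ) = loS (p.2 μ) := by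
        ext i j
        show p.2 ((loS μ).1 i j) = _
        fin_cases i <;> fin_cases j <;> simp [loS]
      simp only [hφ', MonoidHom.comp_apply, e1, e2, hφ]
      exact ⟨trivial, trivial⟩
    have hcomm : ∀ a b, Commute (φ' a) (Ψ b) := by
      intro a b
      have h1 : Subgroup.closure {g | ∃ q ∈ L, ∃ t, hF.xg q.1 t = g ∨ hF.xg (D.neg q.1) t = g} ≤
          Subgroup.centralizer {φ' a} := by
        refine (Subgroup.closure_le _).2 ?_
        rintro g ⟨q, hq, t, hgq⟩
        have hqm : q.1 ∈ (p :: L).map Prod.fst := List.mem_cons_of_mem _ (List.mem_map.2 ⟨q, hq, rfl⟩)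
        have hne : p.1 ≠ q.1 := fun e => hp (List.mem_map.2 ⟨q, hq, e.symm⟩)
        have h2 : φ.range ≤ Subgroup.centralizer {g} := by
          rw [hφr, Subgroup.closure_le]
          intro x hx
          refine Subgroup.mem_centralizer_singleton_iff.2 ?_
          rcases hx with ⟨u, rfl⟩ | ⟨u, rfl⟩ <;> rcases hgq with rfl | rfl
          · exact (hF.xg_commute2 hc List.mem_cons_self hqm hne (Or.inl rfl) (Or.inl rfl) u t).eq
          · exact (hF.xg_commute2 hc List.mem_cons_self hqm hne (Or.inl rfl) (Or.inr rfl) u t).eq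
          · exact (hF.xg_commute2 hc List.mem_cons_self hqm hne (Or.inr rfl) (Or.inl rfl) u t).eq
          · exact (hF.xg_commute2 hc List.mem_cons_self hqm hne (Or.inr rfl) (Or.inr rfl) u t).eq
        have h3 : φ' a ∈ φ.range := ⟨_, rfl⟩
        exact Subgroup.mem_centralizer_singleton_iff.2 (Subgroup.mem_centralizer_singleton_iff.1 (h2 h3)).symm
      exact (Subgroup.mem_centralizer_singleton_iff.1 (h1 (hrange ⟨b, rfl⟩))).symm
    refine ⟨MonoidHom.mk' (fun g => φ' g * Ψ g) fun a b => ?_, fun μ => ⟨?_, ?_⟩, ?_⟩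
    · rw [map_mul, map_mul, mul_assoc (φ' a), ← mul_assoc (φ' b), (hcomm b a).eq]
      simp only [mul_assoc]
    · show φ' (upS μ) * Ψ (upS μ) = _
      rw [(hup μ).1, (hΨ μ).1, List.map_cons, hF.wg_cons]
    · show φ' (loS μ) * Ψ (loS μ) = _
      rw [(hup μ).2, (hΨ μ).2, List.map_cons, hF.wg_cons]
    · rintro _ ⟨g, rfl⟩
      show φ' g * Ψ g ∈ _
      refine mul_mem ?_ ?_
      · have h2 : φ.range ≤ Subgroup.closure
            {g | ∃ q ∈ p :: L, ∃ t, hF.xg q.1 t = g ∨ hF.xg (D.neg q.1) t = g} := by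
          rw [hφr]
          refine Subgroup.closure_mono ?_
          rintro x (⟨t, rfl⟩ | ⟨t, rfl⟩)
          exacts [⟨p, List.mem_cons_self, t, Or.inl rfl⟩, ⟨p, List.mem_cons_self, t, Or.inr rfl⟩]
        exact h2 ⟨_, rfl⟩
      · refine Subgroup.closure_mono ?_ (hrange ⟨g, rfl⟩)
        rintro x ⟨q, hq, h⟩
        exact ⟨q, List.mem_cons_of_mem _ hq, h⟩

variable [Finite F] {T : Twist hF F} {Os : List (List (Fin D.rank))} {X : TwData T Os}

/-- An irrational parameter gives all parameters. -/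
theorem rank_one_full [Fintype F] {r : ℕ} (hr : r.Prime) {K₀ : Subfield F} (hK₀ : ∀ x, x ∈ K₀ ↔ T.fr x = x)
    (hcard : Fintype.card F = Nat.card K₀ ^ r) (Ψ : Matrix.SpecialLinearGroup (Fin 2) F →* GL D.Idx F)
    (hrat : ∀ μ, T.fr μ = μ → Ψ (upS μ) ∈ MS X ∧ Ψ (loS μ) ∈ MS X) {H : Subgroup (GL D.Idx F)}
    (hle : MS X ≤ H) {t : F} (ht : T.fr t ≠ t) (h : Ψ (upS t) ∈ H) :
    ∀ μ, Ψ (upS μ) ∈ H ∧ Ψ (loS μ) ∈ H := by
  set G := H.comap Ψ with hG
  have htK : t ∉ K₀ := fun h' => ht ((hK₀ t).1 h')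
  have hlo : ∀ x ∈ K₀, loS x ∈ G := fun x hx => hle (hrat x ((hK₀ x).1 hx)).2
  have hup : ∀ x ∈ K₀, upS x ∈ G := fun x hx => hle (hrat x ((hK₀ x).1 hx)).1
  have hsc : ∀ k ∈ K₀, upS (k ^ 2 * t) ∈ G := by
    intro k hk
    by_cases hk0 : k = 0
    · rw [hk0]
      simpa using hup 0 (zero_mem _)
    set w : F → Matrix.SpecialLinearGroup (Fin 2) F := fun a => upS a * loS (-a⁻¹) * upS a
    have hw : ∀ a ∈ K₀, w a ∈ G := fun a ha =>
      mul_mem (mul_mem (hup a ha) (hlo _ (neg_mem (inv_mem ha)))) (hup a ha)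
    have hd : w k * w (-1) ∈ G := mul_mem (hw k hk) (hw _ (neg_mem (one_mem _)))
    have e : upS (k ^ 2 * t) * (w k * w (-1)) = w k * w (-1) * upS t := by
      ext i j
      fin_cases i <;> fin_cases j <;> simp [w, RankOneRel.entries_mul, RankOneRel.upS_val, RankOneRel.loS_val] <;>
        field_simp <;> (try simp) <;> (try ring)
    have hmem := mul_mem (mul_mem hd (show upS t ∈ G from h)) (inv_mem hd)
    rwa [← e, mul_inv_cancel_right] at hmem
  have eU : ∀ μ : F, Cfsg.Agent.Small.PSL2.uS μ = upS μ := fun μ => by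
    apply Subtype.ext; ext i j; fin_cases i <;> fin_cases j <;> simp [upS]
  have eL : ∀ μ : F, Cfsg.Agent.Small.PSL2.vS μ = loS μ := fun μ => by
    apply Subtype.ext; ext i j; fin_cases i <;> fin_cases j <;> simp [loS]
  have uadd : ∀ a b : F, upS (a + b) = upS a * upS b := fun a b => by
    apply Subtype.ext; ext i j
    fin_cases i <;> fin_cases j <;> simp [RankOneRel.entries_mul, RankOneRel.upS_val, add_comm]
  have uneg : ∀ a : F, upS (-a) = (upS a)⁻¹ := fun a => by
    rw [eq_inv_iff_mul_eq_one, ← uadd, neg_add_cancel]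
    apply Subtype.ext; ext i j
    fin_cases i <;> fin_cases j <;> simp [upS]
  have hu : ∀ x ∈ K₀, ∀ y ∈ K₀, upS (x * t + y * 1) ∈ G := fun x hx y hy => by
    obtain ⟨u, hu, v, hv, rfl⟩ := SubMax.exists_squares K₀ hx
    rw [sub_mul, sub_eq_add_neg, mul_one, uadd, uadd, uneg]
    exact mul_mem (mul_mem (hsc u hu) (inv_mem (hsc v hv))) (hup y hy)
  have hind : ∀ x ∈ K₀, ∀ y ∈ K₀, x * t + y * 1 = 0 → x = 0 ∧ y = 0 := fun x hx y hy e => by
    by_cases h0 : x = 0
    · subst h0; exact ⟨rfl, by simpa using e⟩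
    · exact absurd (by
        rw [show t = -(y * x⁻¹) by field_simp; linear_combination e]
        exact neg_mem (mul_mem hy (inv_mem hx))) htK
  have hall : ∀ μ, upS μ ∈ G := fun μ => eU μ ▸ Cfsg.Agent.Classical.SL2Plane.shifts_full hr hcard one_ne_zero
    (by rw [eL]; exact hlo 1 (one_mem _)) (fun x hx y hy => by rw [eU]; exact hu x hx y hy) hind μ
  have hGtop : G = ⊤ := Cfsg.Agent.PushUp.sl2_top_of_mem (fun μ => by rw [eU]; exact hall μ)
    (hlo 1 (one_mem _)) (by simp [loS])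
  exact fun μ => ⟨hall μ, hGtop.ge (Subgroup.mem_top (loS μ))⟩

/-- Transport of an irrational element by a product of Weyl representatives of orbits. -/
theorem transport (C : Ctx X) {H : Subgroup (GL D.Idx F)} (hle : MS X ≤ H) (ws : List (List (Fin D.rank)))
    (hws : ∀ ω ∈ ws, ω ∈ Os) {L0 L1 : List ℕ}
    (htab : (L0.all fun s => decide (s < D.nroots) && L1.contains (actR D (ws.flatten.map Fin.val) s)) = true)
    {y : GL D.Idx F} (hy : y ∈ H) (hyL : y ∈ (hF.tsys F).US L0) (hyf : y ∈ T.fix)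
    (hyi : gmap T.fr y ≠ y) :
    ∃ z ∈ H, z ∈ (hF.tsys F).US L1 ∧ z ∈ T.fix ∧ gmap T.fr z ≠ z := by
  simp only [List.all_eq_true, Bool.and_eq_true, decide_eq_true_eq, List.contains_iff_mem] at htab
  set n := (hF.tsys F).nw ws.flatten with hn
  have hnM : n ∈ MS X := by
    rw [hn]
    clear htab hn
    induction ws with
    | nil => exact one_mem _
    | cons ω ws ih =>
      rw [List.flatten_cons, TorusSys.nw_append]
      exact mul_mem (C.nw_mem ω (hws ω List.mem_cons_self)) (ih (fun a ha => hws a (List.mem_cons_of_mem _ ha)))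
  refine ⟨n * y * n⁻¹, mul_mem (mul_mem (hle hnM) hy) (inv_mem (hle hnM)), ?_, ?_, fun e => hyi ?_⟩
  · have : (hF.tsys F).US L0 ≤ ((hF.tsys F).US L1).comap (MulAut.conj n).toMonoidHom := by
      refine CommSys.US_le _ fun s hs t => ?_
      obtain ⟨hlt, hmem⟩ := htab s hs
      obtain ⟨e, -, he⟩ := nw_conj_root (hF := hF) (F := F) ws.flatten s hlt
      show n * hF.xg s t * n⁻¹ ∈ (hF.tsys F).US L1
      rw [hn, he t]
      exact CommSys.x_mem_US _ hmem _
    exact this hyL
  · exact mul_mem (mul_mem (X.le_fix (mem_MS.1 hnM).1) hyf) (inv_mem (X.le_fix (mem_MS.1 hnM).1))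
  · rw [map_mul, map_mul, map_inv, (mem_MS.1 hnM).2] at e
    exact mul_left_cancel (mul_right_cancel e)

end Cfsg.Agent.Lie.TwMax
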