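import Cfsg.Agent.Lib.Lie.TwMax.Main
import Cfsg.Agent.Lib.Lie.TwMax.Full
import Cfsg.Agent.Lib.Lie.SubMax.Tables

/-!
Irrational elements of single orbits inside an overgroup.
-/

set_option autoImplicit false

namespace Cfsg.Agent.Lie.TwMax

open Cfsg.Lie Matrix
open scoped MatrixGroups

variable {D : ChevalleyDatum} {F : Type*} [Field F] {hF : Facts D} [Finite F] {T : Twist hF F}
  {Os : List (List (Fin D.rank))} {X : TwData T Os} (C : Ctx X)

/-- The representatives of the orbits of nodes are rational. -/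
theorem nw_mem_of (hfr1 : ∀ ω ∈ Os, (Twist.simples D ω).Nodup ∧ okComm2 D (Twist.simples D ω) = true ∧
      okComm D (Twist.simples D ω) = true ∧ Twist.okStable D T.R (Twist.simples D ω) = true ∧
      ((Twist.simples D ω).map fun r => hF.xg (D.neg r) (-1 : F)).prod ∈ X.G1) :
    ∀ ω ∈ Os, (hF.tsys F).nw ω ∈ MS X := by
  intro ω hω
  obtain ⟨hnd, hc2, hc, hst, hneg⟩ := hfr1 ω hω
  refine mem_MS.2 ⟨?_, gmap_nw T.fr ω⟩
  have h2 := hF.prod_ng hnd hc2 (fun _ => (1 : F))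
  simp only [inv_one] at h2
  rw [← Twist.nw_orbit (hF := hF)] at h2
  rw [h2]
  have hpos : (hF.sys F).prodOver (Twist.simples D ω) (fun _ => (1 : F)) ∈ X.G1 := by
    refine X.U_fix_le ⟨CommSys.US_mono _ (fun r hr => ?_) (CommSys.prodOver_mem _ _ _),
      T.prodOver_mem_fix hc hst _ fun r _ => by simp⟩
    obtain ⟨i, -, rfl⟩ := List.mem_map.1 hr
    exact Facts.mem_posL.2 ⟨hF.simple_ge i.val i.isLt, hF.simple_lt i.val i.isLt⟩
  exact mul_mem (mul_mem hpos hneg) hpos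

include C

/-- Splitting off fixed roots from an element with an irrational coordinate. -/
theorem pure_orbit {H : Subgroup (GL D.Idx F)} (hle : MS X ≤ H) {P Z : List ℕ}
    (hf : Free D (P ++ Z) (P ++ Z)) (hi : okImg D T.R (P ++ Z) (P ++ Z) = true)
    (hZ : ∀ s ∈ Z, T.R.img s = s) {g : GL D.Idx F} (hg : g ∈ H) (hgf : g ∈ T.fix)
    (hgL : g ∈ (hF.tsys F).US (P ++ Z)) {p : ℕ} (hp : p ∈ P)
    (hir : T.fr (φ hF (P ++ Z) p g) ≠ φ hF (P ++ Z) p g) :
    ∃ y ∈ H, y ∈ (hF.tsys F).US P ∧ y ∈ T.fix ∧ gmap T.fr y ≠ y := by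
  obtain ⟨t, ht, htφ⟩ := exists_coords (hF := hF) hf hgL
  have hzM : (hF.sys F).prodOver Z t ∈ MS X := by
    refine Subgroup.list_prod_mem _ fun x hx => ?_
    obtain ⟨s, hs, rfl⟩ := List.mem_map.1 hx
    have hsm : s ∈ P ++ Z := List.mem_append_right _ hs
    have hlt := (hf.cl.mem_pos s hsm).2
    refine C.long_mem hlt (hZ s hs) ?_
    have := φ_fixed T hf hi hgL hgf hsm
    rw [hZ s hs, (C.expo hlt).2 (hZ s hs), Int.cast_one, one_mul, ← htφ s hsm] at this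
    exact this.symm
  have hsplit : g = (hF.sys F).prodOver P t * (hF.sys F).prodOver Z t := by
    rw [ht]; simp [CommSys.prodOver, List.map_append]
  have hy : (hF.sys F).prodOver P t = g * ((hF.sys F).prodOver Z t)⁻¹ := by
    rw [hsplit, mul_inv_cancel_right]
  refine ⟨(hF.sys F).prodOver P t, hy ▸ mul_mem hg (inv_mem (hle hzM)), CommSys.prodOver_mem _ P t,
    hy ▸ mul_mem hgf (inv_mem (X.le_fix (mem_MS.1 hzM).1)), fun e => hir ?_⟩
  have hgg : gmap T.fr g = g := by rw [hsplit, map_mul, e, (mem_MS.1 hzM).2]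
  have := φ_gmap (hF := hF) hf (List.mem_append_left _ hp) T.fr hgL
  rw [hgg] at this
  exact this.symm

/-- A long root element seen in the frame of a normal form. -/
theorem seen_side {H : Subgroup (GL D.Idx F)} (hle : MS X ≤ H) {v : GL D.Idx F}
    (hv : v ∈ (hF.tsys F).US (qL D)) (hf : v ∈ T.fix) {b : ℕ} (hb : b ∈ SubMax.q1 D) (hi : T.R.img b = b)
    {k : F} (hk : T.fr k = k) : hF.xg b k ∈ SubMax.seen v H :=
  SubMax.mem_seen.2 (hle (C.side hv hf hb hi hk))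

/-- The lowered root element is seen. -/
theorem seen_down {H : Subgroup (GL D.Idx F)} (hle : MS X ≤ H) {v : GL D.Idx F}
    (hv : v ∈ (hF.tsys F).US (qL D)) (hf : v ∈ T.fix) {c : F} (hc : c ≠ 0) (hcf : T.fr c = c)
    (hl : v * hF.xg (D.neg (SubMax.top D)) c * v⁻¹ ∈ H) {b f : ℕ} (hb : b ∈ SubMax.q1 D) (hi : T.R.img b = b)
    (htab : (SubMax.oneTerm (tms D (D.neg (SubMax.top D)) b) f && b != D.neg (D.neg (SubMax.top D))) = true) :
    ∃ ε : F, ε * ε = 1 ∧ T.fr ε = ε ∧ hF.xg f ε ∈ SubMax.seen v H := by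
  rw [Bool.and_eq_true, bne_iff_ne] at htab
  obtain ⟨N, hN, ht⟩ := SubMax.oneTerm_spec htab.1
  have h1 := seen_side C hle hv hf hb hi (k := c⁻¹) (by rw [map_inv₀, hcf])
  have h2 := step_mem (hF := hF) (hF.neg_lt C.top_lt) (SubMax.q1_pos hb).2 htab.2 ht (SubMax.mem_seen.2 hl) h1
  rw [mul_assoc, mul_inv_cancel₀ hc, mul_one] at h2
  exact ⟨_, SubMax.natAbs_one_cast hN F, map_intCast _ _, h2⟩

/-- Removing the coordinates at fixed roots. -/
theorem strip_fixed {H : Subgroup (GL D.Idx F)} (hle : MS X ≤ H) {g : GL D.Idx F} (hg : g ∈ H)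
    (hgf : g ∈ T.fix) (hgL : g ∈ (hF.tsys F).US (qL D)) {Z : List ℕ} (hnd : Z.Nodup)
    (hZ : ∀ s ∈ Z, s ∈ SubMax.q1 D ∧ T.R.img s = s) :
    ∃ g' ∈ H, g' ∈ T.fix ∧ g' ∈ (hF.tsys F).US (qL D) ∧ ∀ r ∈ SubMax.q1 D,
      φ hF (qL D) r g' = if r ∈ Z then 0 else φ hF (qL D) r g := by
  obtain ⟨J, Ps, -, hfree, himg⟩ := C.qfree
  set t : ℕ → F := fun r => φ hF (qL D) r g with htdef
  have hsub : ∀ s ∈ Z, s ∈ qL D := fun s hs => List.mem_append_left _ (hZ s hs).1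
  have hzM : (hF.sys F).prodOver Z t ∈ MS X := by
    refine Subgroup.list_prod_mem _ fun x hx => ?_
    obtain ⟨s, hs, rfl⟩ := List.mem_map.1 hx
    have hlt := (SubMax.q1_pos (hZ s hs).1).2
    refine C.long_mem hlt (hZ s hs).2 ?_
    have := φ_fixed T hfree himg hgL hgf (hZ s hs).1
    rw [(hZ s hs).2, (C.expo hlt).2 (hZ s hs).2, Int.cast_one, one_mul] at this
    exact this.symm
  have hzQ : (hF.sys F).prodOver Z t ∈ (hF.tsys F).US (qL D) :=
    CommSys.US_mono _ hsub (CommSys.prodOver_mem _ Z t)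
  refine ⟨((hF.sys F).prodOver Z t)⁻¹ * g, mul_mem (inv_mem (hle hzM)) hg,
    mul_mem (inv_mem (X.le_fix (mem_MS.1 hzM).1)) hgf, mul_mem (inv_mem hzQ) hgL, fun r hr => ?_⟩
  rw [φ_mul hfree hr (inv_mem hzQ) hgL, φ_inv hfree hr hzQ, φ_prodOver hfree hr t hnd hsub]
  by_cases e : r ∈ Z <;> simp [e, htdef]

end Cfsg.Agent.Lie.TwMax
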