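import Cfsg.Agent.Lib.Lie.TwMax.Coord
import Cfsg.Agent.Lib.Lie.TwistBN
import Cfsg.Agent.Lib.Lie.TwistTorus
import Cfsg.Agent.Lib.Lie.SubMax.Frame

/-!
Twisted groups with fixed roots long: conjugates of the highest root elements by fixed elements.
-/

set_option autoImplicit false

namespace Cfsg.Agent.Lie.TwMax

open Cfsg.Lie Matrix
open scoped MatrixGroups

/-- The radical of the highest root as an increasing list. -/
def qL (D : ChevalleyDatum) : List ℕ := SubMax.q1 D ++ [SubMax.top D]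

/-- All root maps have exponent one and fix fixed roots without sign. -/
def okBase (D : ChevalleyDatum) (R : RMap) : Bool :=
  SubMax.okRad D && R.img (SubMax.top D) == SubMax.top D &&
  (List.range D.nroots).all fun r => R.expo r == 1 && (R.img r != r || R.sign r == 1)

/-- The table for climbing to the lowest root along orbits of nodes. -/
def okClimb (D : ChevalleyDatum) (R : RMap) (Os : List (List (Fin D.rank))) : Bool :=
  (List.range D.nroots).all fun β => R.img β != β || β == D.neg (SubMax.top D) ||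
    Os.any fun ω => decide (actR D (ω.map Fin.val) β < β) &&
      (orbL D (ω.map Fin.val)).all fun r => r != D.neg β && (tms D r β).isEmpty

/-- The table for the radical of the highest root, its orbits and the Levi factor on the nodes J. -/
def okQ (D : ChevalleyDatum) (R : RMap) (J : List (Fin D.rank)) (Ps : List (List ℕ)) : Bool :=
  okFree D (qL D) (SubMax.q1 D) && okFree D [SubMax.top D] [SubMax.top D] &&
  okImg D R (qL D) (SubMax.q1 D) &&
  (SubMax.qAll D).all (fun r => !inJb D (J.map Fin.val) r) &&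
  (SubMax.l0 D).all (fun r => inJb D (J.map Fin.val) r && (SubMax.l0 D).contains (R.img r)) &&
  Ps.flatten.isPerm (SubMax.q1 D) &&
  Ps.all (fun P => okComm D P && (P.map R.img).isPerm P) &&
  (SubMax.q1 D).all fun b => R.img b != b ||
    (okConj D (qL D) b && (SubMax.q1 D).all fun r => (src D (qL D) b r).isEmpty)

variable {D : ChevalleyDatum} {F : Type*} [Field F] {hF : Facts D}

/-- A root element conjugated by a Weyl element. -/
theorem nw_conj_root : ∀ (ω : List (Fin D.rank)) (r : ℕ), r < D.nroots → ∃ e : F, e * e = 1 ∧ ∀ t,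
    (hF.tsys F).nw ω * hF.xg r t * ((hF.tsys F).nw ω)⁻¹ = hF.xg (actR D (ω.map Fin.val) r) (e * t) := by
  intro ω
  induction ω with
  | nil => intro r _; exact ⟨1, one_mul 1, fun t => by simp [TorusSys.nw_nil, actR]⟩
  | cons i ω ih =>
    intro r hr
    obtain ⟨e, he, hconj⟩ := ih r hr
    have hlt : actR D (ω.map Fin.val) r < D.nroots := by
      rw [← Facts.pr_smul_val (hF := hF) ω ⟨r, hr⟩]; exact Fin.isLt _
    refine ⟨hF.sgn F i (actR D (ω.map Fin.val) r) * e, ?_, fun t => ?_⟩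
    · linear_combination (hF.sgn F i (actR D (ω.map Fin.val) r) * hF.sgn F i (actR D (ω.map Fin.val) r)) * he +
        hF.sgn_mul_self (F := F) i.isLt hlt
    · have h1 := (hF.tsys F).nS_conj i hlt (e * t)
      rw [hF.tsys_x, hF.tsys_x, ← hconj t, ← mul_assoc (hF.sgn F _ _)] at h1
      rw [TorusSys.nw_cons, List.map_cons, actR, List.foldr_cons]
      rw [show (hF.tsys F).nS i * (hF.tsys F).nw ω * hF.xg r t * ((hF.tsys F).nS i * (hF.tsys F).nw ω)⁻¹ =
        (hF.tsys F).nS i * ((hF.tsys F).nw ω * hF.xg r t * ((hF.tsys F).nw ω)⁻¹) * ((hF.tsys F).nS i)⁻¹ by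
          group]
      exact h1

/-- One commutator term between two elements of a subgroup. -/
theorem step_mem {K : Subgroup (GL D.Idx F)} {a s c : ℕ} {N : ℤ} (ha : a < D.nroots) (hs : s < D.nroots)
    (hne : s ≠ D.neg a) (h : tms D a s = [(c, N, 1, 1)]) {k v : F} (hk : hF.xg a k ∈ K)
    (hv : hF.xg s v ∈ K) : hF.xg c ((N : F) * k * v) ∈ K := by
  have e := xg_conj (hF := hF) ha hs hne k v
  rw [h, List.map_singleton, hF.wg_cons, hF.wg_nil, mul_one, pow_one, pow_one] at e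
  have := mul_mem (inv_mem hv) (mul_mem (mul_mem hk hv) (inv_mem hk))
  rwa [e, inv_mul_cancel_left] at this

theorem gmap_prodOver (f : F →+* F) (L : List ℕ) (t : ℕ → F) :
    gmap f ((hF.sys F).prodOver L t) = (hF.sys F).prodOver L fun s => f (t s) := by
  simp only [CommSys.prodOver, map_list_prod, List.map_map, Function.comp_def, Facts.sys_x, hF.gmap_xg]

theorem gmap_nw (f : F →+* F) (ω : List (Fin D.rank)) :
    gmap f ((hF.tsys F).nw ω) = (hF.tsys F).nw ω := by
  simp only [TorusSys.nw, map_list_prod, List.map_map]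
  congr 1
  refine List.map_congr_left fun i _ => ?_
  rw [Function.comp_apply, hF.tsys_nS, hF.gmap_ng, map_one]

variable {T : Twist hF F}

/-- A product over commuting roots permuted by the root map, with signs. -/
theorem prodOver_fix_signed {L : List ℕ} (hc : okComm D L = true) (hperm : (L.map T.R.img).Perm L)
    (t : ℕ → F) (h : ∀ r ∈ L, T.R.expo r = 1 ∧ t (T.R.img r) = (T.R.sign r : F) * T.fr (t r)) :
    (hF.sys F).prodOver L t ∈ T.fix := by
  refine ⟨hF.prodOver_mem_group L t, ?_⟩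
  conv_rhs => rw [hF.prodOver_perm hc hperm.symm t]
  simp only [CommSys.prodOver, Facts.sys_x, List.map_map]
  rw [T.sig_list_prod _ _ fun r _ => hF.xg_mem_group r _]
  congr 1
  refine List.map_congr_left fun r hr => ?_
  have hlt : r < D.nroots := by
    simp only [okComm, List.all_eq_true, Bool.and_eq_true, decide_eq_true_eq] at hc
    exact (hc r hr).1
  rw [T.sig_x r hlt, hF.imgX_lt T.R hlt, (h r hr).1, pow_one, Function.comp_apply, (h r hr).2]

variable [Finite F] {Os : List (List (Fin D.rank))}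

/-- The fixed elements with entries in the fixed field. -/
noncomputable def MS (X : TwData T Os) : Subgroup (GL D.Idx F) :=
  X.G1 ⊓ (gmap T.fr).eqLocus (MonoidHom.id _)

theorem mem_MS {X : TwData T Os} {g : GL D.Idx F} : g ∈ MS X ↔ g ∈ X.G1 ∧ gmap T.fr g = g := Iff.rfl

/-- Everything used about the group. -/
structure Ctx (X : TwData T Os) : Prop where
  base : okBase D T.R = true
  climb : okClimb D T.R Os = true
  quad : ∃ J Ps, okQ D T.R J Ps = true
  nw_mem : ∀ ω ∈ Os, (hF.tsys F).nw ω ∈ MS X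

variable {X : TwData T Os} (C : Ctx X)

include C

theorem Ctx.rad : SubMax.okRad D = true := by
  have h := C.base
  simp only [okBase, Bool.and_eq_true] at h
  exact h.1.1

theorem Ctx.top_img : T.R.img (SubMax.top D) = SubMax.top D := by
  have h := C.base
  simp only [okBase, Bool.and_eq_true, beq_iff_eq] at h
  exact h.1.2

theorem Ctx.expo {r : ℕ} (hr : r < D.nroots) : T.R.expo r = 1 ∧ (T.R.img r = r → T.R.sign r = 1) := by
  have h := C.base
  simp only [okBase, Bool.and_eq_true, List.all_eq_true, List.mem_range, beq_iff_eq, Bool.or_eq_true,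
    bne_iff_ne] at h
  exact ⟨(h.2 r hr).1, fun e => (h.2 r hr).2.resolve_left (fun hne => hne e)⟩

theorem Ctx.top_lt : SubMax.top D < D.nroots := SubMax.top_lt C.rad

theorem Ctx.neg_top_img : T.R.img (D.neg (SubMax.top D)) = D.neg (SubMax.top D) := by
  rw [T.root_neg C.top_lt, C.top_img]

theorem Ctx.xg_fix_iff {r : ℕ} (hr : r < D.nroots) (hi : T.R.img r = r) (c : F) :
    hF.xg r c ∈ T.fix ↔ T.fr c = c := by
  rw [Twist.mem_fix, T.sig_x r hr, hF.imgX_lt T.R hr, hi, (C.expo hr).1, (C.expo hr).2 hi, pow_one,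
    Int.cast_one, one_mul]
  exact ⟨fun h => hF.xg_inj hr h.2, fun h => ⟨hF.xg_mem_group r c, by rw [h]⟩⟩

theorem Ctx.top_mem {z : F} (hz : T.fr z = z) : hF.xg (SubMax.top D) z ∈ MS X := by
  refine mem_MS.2 ⟨X.U_fix_le ⟨?_, (C.xg_fix_iff C.top_lt C.top_img z).2 hz⟩, by rw [hF.gmap_xg, hz]⟩
  exact (hF.tsys F).x_mem_U (SubMax.top_pos hF C.rad).1 C.top_lt z

theorem Ctx.climb_step {β : ℕ} (hβ : β < D.nroots) (hi : T.R.img β = β) (hne : β ≠ D.neg (SubMax.top D)) :
    ∃ ω ∈ Os, actR D (ω.map Fin.val) β < β ∧ T.R.img (actR D (ω.map Fin.val) β) = actR D (ω.map Fin.val) β ∧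
      ∀ r ∈ orbL D (ω.map Fin.val), ∀ a c : F, Commute (hF.xg r a) (hF.xg β c) := by
  have h := C.climb
  simp only [okClimb, List.all_eq_true, List.mem_range, Bool.or_eq_true, bne_iff_ne, beq_iff_eq,
    List.any_eq_true, Bool.and_eq_true, decide_eq_true_eq, List.isEmpty_iff] at h
  obtain ⟨ω, hω, hlt, hall⟩ := (h β hβ).resolve_left (by rintro (h1 | h1); exacts [h1 hi, hne h1])
  refine ⟨ω, hω, hlt, ?_, fun r hr a c => ?_⟩
  · conv_rhs => rw [← hi, (T.orbit_root X.hOs hω hβ).2.1]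
  · obtain ⟨hne', ht⟩ := hall r hr
    have hrl := (T.mem_orbL hr).2
    have e := xg_conj (hF := hF) hrl hβ (fun e => hne' (by rw [e, hF.neg_neg hrl])) a c
    rw [ht, List.map_nil, hF.wg_nil, mul_one] at e
    exact mul_inv_eq_iff_eq_mul.1 e

/-- Every fixed root is conjugate by a rational element to the lowest one. -/
theorem Ctx.long_conj : ∀ r, r < D.nroots → T.R.img r = r → ∃ n ∈ MS X, ∃ e : F, e * e = 1 ∧
    ∀ t, n * hF.xg r t * n⁻¹ = hF.xg (D.neg (SubMax.top D)) (e * t) := by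
  intro r
  induction r using Nat.strong_induction_on with
  | _ r ih =>
    intro hr hi
    by_cases hlow : r = D.neg (SubMax.top D)
    · exact ⟨1, one_mem _, 1, one_mul 1, fun t => by simp [hlow]⟩
    obtain ⟨ω, hω, hlt, himg, -⟩ := C.climb_step hr hi hlow
    obtain ⟨n, hn, e, he, hconj⟩ := ih _ hlt (hlt.trans hr) himg
    obtain ⟨f, hf, hfc⟩ := nw_conj_root (hF := hF) (F := F) ω r hr
    refine ⟨n * (hF.tsys F).nw ω, mul_mem hn (C.nw_mem ω hω), e * f, by linear_combination (f * f) * he + hf,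
      fun t => ?_⟩
    rw [show n * (hF.tsys F).nw ω * hF.xg r t * (n * (hF.tsys F).nw ω)⁻¹ =
      n * ((hF.tsys F).nw ω * hF.xg r t * ((hF.tsys F).nw ω)⁻¹) * n⁻¹ by group, hfc, hconj, mul_assoc]

theorem Ctx.long_mem {r : ℕ} (hr : r < D.nroots) (hi : T.R.img r = r) {c : F} (hc : T.fr c = c) :
    hF.xg r c ∈ MS X := by
  obtain ⟨n, hn, e, he, hconj⟩ := C.long_conj r hr hi
  obtain ⟨m, hm, f, hf, hconj'⟩ := C.long_conj _ C.top_lt C.top_img
  have hefix : ∀ a : F, a * a = 1 → T.fr a = a := fun a ha => by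
    rcases mul_self_eq_one_iff.1 ha with rfl | rfl <;> simp
  have h1 := C.top_mem (z := f * (e * c)) (by rw [map_mul, map_mul, hefix f hf, hefix e he, hc])
  have h2 : m * hF.xg (SubMax.top D) (f * (e * c)) * m⁻¹ = n * hF.xg r c * n⁻¹ := by
    rw [hconj', hconj, ← mul_assoc, hf, one_mul]
  have h3 := mul_mem (mul_mem (inv_mem hn) (h2 ▸ mul_mem (mul_mem hm h1) (inv_mem hm))) hn
  simpa [mul_assoc] using h3

theorem Ctx.climb_form : ∀ β, β < D.nroots → T.R.img β = β → ∀ u ∈ (hF.tsys F).U, u ∈ T.fix →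
    ∀ c : F, c ≠ 0 → T.fr c = c → ∃ m ∈ MS X, ∃ u' ∈ (hF.tsys F).U, u' ∈ T.fix ∧ ∃ c' : F, c' ≠ 0 ∧
      T.fr c' = c' ∧ m * (u * hF.xg β c * u⁻¹) * m⁻¹ = u' * hF.xg (D.neg (SubMax.top D)) c' * u'⁻¹ := by
  intro β
  induction β using Nat.strong_induction_on with
  | _ β ih =>
    intro hβ hi u hu huf c hc hcf
    by_cases hlow : β = D.neg (SubMax.top D)
    · exact ⟨1, one_mem _, u, hu, huf, c, hc, hcf, by simp [hlow]⟩
    obtain ⟨ω, hω, hlt, himg, hcomm⟩ := C.climb_step hβ hi hlow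
    obtain ⟨a, ha, hae⟩ := (hF.tsys F).nw_eq (ω := ω) (w := T.wO ω) rfl
    obtain ⟨w0, hw0, hw0L⟩ := T.exists_longest
    obtain ⟨i, hiω⟩ : ∃ i, i ∈ ω := by
      rcases ω with _ | ⟨i, ω⟩
      · simp [actR] at hlt
      · exact ⟨i, List.mem_cons_self⟩
    have hneg0 : w0 • hF.refSys.α i ∉ hF.refSys.P := by
      have : D.simple i.val ∈ TorusSys.invList w0 := by
        rw [hw0L]; exact Facts.mem_posL.2 ⟨hF.simple_ge i i.isLt, hF.simple_lt i i.isLt⟩
      obtain ⟨h, hh⟩ := TorusSys.mem_invList.1 this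
      exact ((RefSystem.mem_inv _).1 hh).2
    obtain ⟨hq1, hq2, hq3⟩ := T.split X.hOs hω hw0 hiω hneg0
    have hww : w0 * T.wO ω * T.wO ω = w0 := by rw [mul_assoc, T.wO_sq X.hOs hω, mul_one]
    have hS : T.SplitHyp ω (w0 * T.wO ω) := ⟨hq1, by rw [hww]; exact hw0, by rw [hww]; exact hq2, hq3⟩
    have hu' : u ∈ (hF.tsys F).US (TorusSys.invList (w0 * T.wO ω * T.wO ω)) := by
      rw [hww, hw0L]; exact hu
    have hn := C.nw_mem ω hω
    obtain ⟨y, hy, hyf, x, hx, -, hue⟩ := hS.fixed T hω X.hOs ha (hae ▸ X.le_fix (mem_MS.1 hn).1) hu' huf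
    rw [← hae] at hue
    have hxc : Commute x (hF.xg β c) := by
      have : (hF.tsys F).US (orbL D (ω.map Fin.val)) ≤ Subgroup.centralizer {hF.xg β c} :=
        CommSys.US_le _ fun r hr t => Subgroup.mem_centralizer_singleton_iff.2 (hcomm r hr t c).eq
      exact Subgroup.mem_centralizer_singleton_iff.1 (this hx)
    obtain ⟨e, he, hconj⟩ := nw_conj_root (hF := hF) (F := F) ω β hβ
    have hefix : T.fr e = e := by rcases mul_self_eq_one_iff.1 he with rfl | rfl <;> simp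
    have hyU : y ∈ (hF.tsys F).U :=
      CommSys.US_mono _ (fun r hr => Facts.mem_posL.2 ((TorusSys.closed_invList _).mem_pos r hr)) hy
    obtain ⟨m, hm, u', hu'', huf', c', hc', hcf', he'⟩ := ih _ hlt (hlt.trans hβ) himg y hyU hyf (e * c)
      (mul_ne_zero (fun h => by rw [h, zero_mul] at he; exact zero_ne_one he) hc)
      (by rw [map_mul, hefix, hcf])
    refine ⟨m * (hF.tsys F).nw ω, mul_mem hm hn, u', hu'', huf', c', hc', hcf', ?_⟩
    rw [← he', ← hconj c, hue]
    generalize (hF.tsys F).nw ω = n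
    calc m * n * (n⁻¹ * y * n * x * hF.xg β c * (n⁻¹ * y * n * x)⁻¹) * (m * n)⁻¹
        = m * y * n * (x * hF.xg β c) * x⁻¹ * n⁻¹ * y⁻¹ * m⁻¹ := by group
      _ = _ := by rw [hxc.eq]; group

theorem Ctx.qfree : ∃ J Ps, okQ D T.R J Ps = true ∧ Free D (qL D) (SubMax.q1 D) ∧
    okImg D T.R (qL D) (SubMax.q1 D) = true := by
  obtain ⟨J, Ps, h⟩ := C.quad
  have h' := h
  simp only [okQ, Bool.and_eq_true] at h'
  exact ⟨J, Ps, h, free_of_ok h'.1.1.1.1.1.1.1, h'.1.1.1.1.1.2⟩

/-- Splitting off the part of level zero. -/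
theorem Ctx.low_form {u : GL D.Idx F} (hu : u ∈ (hF.tsys F).U) (huf : u ∈ T.fix) (c : F) :
    ∃ v ∈ (hF.tsys F).US (qL D), v ∈ T.fix ∧ u * hF.xg (D.neg (SubMax.top D)) c * u⁻¹ =
      v * hF.xg (D.neg (SubMax.top D)) c * v⁻¹ := by
  obtain ⟨J, Ps, hQ, hfree, himg⟩ := C.qfree
  simp only [okQ, Bool.and_eq_true, List.all_eq_true, Bool.not_eq_true', List.contains_iff_mem] at hQ
  obtain ⟨⟨⟨⟨⟨-, hJq⟩, hJl⟩, -⟩, -⟩, -⟩ := hQ
  have hR := C.rad
  obtain ⟨q, hq, l, hl, rfl⟩ := SubMax.U_level hF hR hu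
  have hqL : ∀ s ∈ SubMax.qAll D, s ∈ qL D := fun s hs => by
    simp only [SubMax.qAll, List.mem_cons] at hs
    simp only [qL, List.mem_append, List.mem_singleton]
    exact hs.symm
  have hq' : q ∈ (hF.tsys F).US (qL D) := CommSys.US_mono _ hqL hq
  have hsq := (φ_sig T hfree himg hq').1
  have hsl : T.sig l ∈ (hF.tsys F).US (SubMax.l0 D) :=
    T.sig_US (fun r hr => ⟨(SubMax.l0_pos hr).2, (hJl r hr).2⟩) hl
  have hqG := T.US_le_group _ hq
  have hlG := T.US_le_group _ hl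
  have he := huf.2
  rw [T.sig_mul _ hqG _ hlG] at he
  have h1 : (T.sig q)⁻¹ * q = T.sig l * l⁻¹ := by
    rw [inv_mul_eq_iff_eq_mul, ← mul_assoc, he, mul_inv_cancel_right]
  obtain ⟨l', hl'⟩ := X.hl
  have hrad : (T.sig q)⁻¹ * q ∈ D.unipotentRadical F (nodeSet J) := by
    rw [hF.unipotentRadical_eq]
    refine CommSys.US_mono _ (fun r hr => ?_) (mul_mem (inv_mem hsq) hq')
    have hr' : r ∈ SubMax.qAll D := by
      simp only [qL, List.mem_append, List.mem_singleton] at hr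
      simp only [SubMax.qAll, List.mem_cons]
      exact hr.symm
    have hp := hfree.cl.mem_pos r hr
    refine (Facts.mem_radL _).2 ⟨hp.1, hp.2, fun hc => ?_⟩
    have := (inJb_iff J hp.2).2 hc
    rw [hJq r hr'] at this
    exact Bool.false_ne_true this
  have hlevi : T.sig l * l⁻¹ ∈ D.leviSubgroup F (nodeSet J) := by
    have : (hF.tsys F).US (SubMax.l0 D) ≤ D.leviSubgroup F (nodeSet J) :=
      CommSys.US_le _ fun r hr t => Subgroup.mem_sup_right (Subgroup.subset_closure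
        ⟨r, t, (inJb_iff J (SubMax.l0_pos hr).2).1 (hJl r hr).1, rfl⟩)
    exact this (mul_mem hsl (inv_mem hl))
  have h0 := (Subgroup.eq_bot_iff_forall _).1 (hF.rad_inf_levi (F := F) hl' (nodeSet J)) _ ⟨hrad, h1 ▸ hlevi⟩
  refine ⟨q, hq', ⟨hqG, inv_mul_eq_one.1 h0⟩, ?_⟩
  have hcomm : Commute l (hF.xg (D.neg (SubMax.top D)) c) := by
    have : (hF.tsys F).US (SubMax.l0 D) ≤ Subgroup.centralizer {hF.xg (D.neg (SubMax.top D)) c} := by
      refine CommSys.US_le _ fun r hr a => Subgroup.mem_centralizer_singleton_iff.2 ?_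
      refine (SubMax.xg_commute hF (SubMax.l0_pos hr).2 (hF.neg_lt C.top_lt) (fun e => ?_)
        (SubMax.l0_lowest hR hr).1 a c).eq
      have e' : SubMax.top D = r := by
        rw [← hF.neg_neg C.top_lt, e, hF.neg_neg (SubMax.l0_pos hr).2]
      have := (SubMax.mem_l0.1 hr).2
      rw [← e', SubMax.lev_top hR] at this
      omega
    exact Subgroup.mem_centralizer_singleton_iff.1 (this hl)
  rw [mul_assoc q l, hcomm.eq]
  group

/-- The normal form of a conjugate of a highest root element. -/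
theorem Ctx.normal_form {g : GL D.Idx F} (hg : g ∈ X.G1) :
    ∃ m ∈ MS X, ∃ v ∈ (hF.tsys F).US (qL D), v ∈ T.fix ∧ ∃ c : F, c ≠ 0 ∧ T.fr c = c ∧
      m * (g * hF.xg (SubMax.top D) 1 * g⁻¹) * m⁻¹ = v * hF.xg (D.neg (SubMax.top D)) c * v⁻¹ := by
  obtain ⟨w, hw, u, hu, huG, a, ha, hn, v, hv, -, rfl⟩ := X.decomp hg
  have hvU : v ∈ (hF.tsys F).U :=
    CommSys.US_mono _ (fun r hr => Facts.mem_posL.2 ((TorusSys.closed_invList w).mem_pos r hr)) hv
  have hvc := SubMax.U_top hF C.rad hvU (1 : F)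
  obtain ⟨e, -, hconj⟩ := hF.nW_conj (F := F) w ⟨SubMax.top D, C.top_lt⟩
  set β := (w • (⟨SubMax.top D, C.top_lt⟩ : Fin D.nroots) : Fin D.nroots) with hβ
  have hβi : T.R.img β.val = β.val := by
    have h1 := hw ⟨SubMax.top D, C.top_lt⟩
    rw [show T.ι ⟨SubMax.top D, C.top_lt⟩ = ⟨SubMax.top D, C.top_lt⟩ from Fin.ext C.top_img] at h1
    exact (congrArg Fin.val h1).symm
  obtain ⟨⟨d, hd⟩, -⟩ := (hF.tsys F).H_conj_X ha β.isLt (e * 1)
  simp only [hF.tsys_x] at hd
  have hnx : a * (hF.tsys F).nW w * hF.xg (SubMax.top D) 1 * (a * (hF.tsys F).nW w)⁻¹ = hF.xg β.val d := by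
    rw [← hd, ← hconj 1]; group
  have key : u * (a * (hF.tsys F).nW w) * v * hF.xg (SubMax.top D) 1 *
      (u * (a * (hF.tsys F).nW w) * v)⁻¹ = u * hF.xg β.val d * u⁻¹ := by
    rw [← hnx, mul_assoc (u * _) v, hvc.eq]
    group
  have hxf : hF.xg β.val d ∈ T.fix := hnx ▸ mul_mem (mul_mem (X.le_fix hn)
    ((C.xg_fix_iff C.top_lt C.top_img 1).2 (map_one _))) (inv_mem (X.le_fix hn))
  have hd0 : d ≠ 0 := by
    rintro rfl
    rw [hF.xg_zero] at hnx
    have h1 : hF.xg (SubMax.top D) (1 : F) = 1 := by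
      have := congrArg (fun x => (a * (hF.tsys F).nW w)⁻¹ * x * (a * (hF.tsys F).nW w)) hnx
      simpa [mul_assoc] using this
    exact one_ne_zero ((hF.x_eq_one _ C.top_lt (1 : F)).1 (congrArg Units.val h1))
  obtain ⟨m, hm, u', hu', huf', c, hc, hcf, he⟩ := C.climb_form β.val β.isLt hβi u hu (X.le_fix huG) d hd0
    ((C.xg_fix_iff β.isLt hβi d).1 hxf)
  obtain ⟨v', hv', hvf', he'⟩ := C.low_form hu' huf' c
  exact ⟨m, hm, v', hv', hvf', c, hc, hcf, by rw [key, he, he']⟩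

omit C in
theorem qL_sub (hfree : Free D (qL D) (SubMax.q1 D)) {g : GL D.Idx F} (hg : g ∈ (hF.tsys F).US (qL D)) :
    g ∈ (hF.tsys F).U :=
  CommSys.US_mono _ (fun r hr => Facts.mem_posL.2 (hfree.cl.mem_pos r hr)) hg

/-- A fixed element of the radical without coordinates of level one. -/
theorem Ctx.central {g : GL D.Idx F} (hg : g ∈ (hF.tsys F).US (qL D)) (hf : g ∈ T.fix)
    (hz : ∀ r ∈ SubMax.q1 D, φ hF (qL D) r g = 0) : g ∈ MS X := by
  obtain ⟨J, Ps, hQ, hfree, -⟩ := C.qfree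
  simp only [okQ, Bool.and_eq_true] at hQ
  have h1 := free_of_ok hQ.1.1.1.1.1.1.2
  obtain ⟨hmem, -⟩ := shrink (hF := hF) hfree hg h1 (fun s hs => by
      rw [List.mem_singleton] at hs; simp [qL, hs]) fun s hs hs' => by
    simp only [qL, List.mem_append, List.mem_singleton] at hs hs'
    exact ⟨hs.resolve_right hs', hz s (hs.resolve_right hs')⟩
  obtain ⟨t, ht, -⟩ := exists_coords (hF := hF) h1 hmem
  simp only [CommSys.prodOver, List.map_cons, List.map_nil, List.prod_cons, List.prod_nil, mul_one,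
    Facts.sys_x] at ht
  subst ht
  exact C.top_mem ((C.xg_fix_iff C.top_lt C.top_img _).1 hf)

/-- A fixed element of the radical with rational coordinates. -/
theorem Ctx.radical_rational {g : GL D.Idx F} (hg : g ∈ (hF.tsys F).US (qL D)) (hf : g ∈ T.fix)
    (hz : ∀ r ∈ SubMax.q1 D, T.fr (φ hF (qL D) r g) = φ hF (qL D) r g) : g ∈ MS X := by
  obtain ⟨J, Ps, hQ, hfree, himg⟩ := C.qfree
  simp only [okQ, Bool.and_eq_true, List.isPerm_iff, List.all_eq_true] at hQ
  obtain ⟨⟨⟨-, hperm⟩, hPs⟩, -⟩ := hQ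
  set t : ℕ → F := fun r => φ hF (qL D) r g with ht
  have hq : ∀ r ∈ SubMax.q1 D, r ∈ qL D := fun r hr => by simp [qL, hr]
  have hPmem : ∀ P ∈ Ps, (hF.sys F).prodOver P t ∈ MS X ⊓ (hF.tsys F).US (qL D) := by
    intro P hP
    have hsub : ∀ r ∈ P, r ∈ SubMax.q1 D := fun r hr => hperm.mem_iff.1 (List.mem_flatten.2 ⟨P, hP, hr⟩)
    have hmem : (hF.sys F).prodOver P t ∈ (hF.tsys F).US (qL D) :=
      CommSys.US_mono _ (fun r hr => hq r (hsub r hr)) (CommSys.prodOver_mem _ P t)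
    refine ⟨mem_MS.2 ⟨X.U_fix_le ⟨qL_sub hfree hmem, prodOver_fix_signed (hPs P hP).1 (hPs P hP).2 t
      fun r hr => ⟨(C.expo (SubMax.q1_pos (hsub r hr)).2).1, φ_fixed T hfree himg hg hf (hsub r hr)⟩⟩, ?_⟩, hmem⟩
    rw [gmap_prodOver]
    exact CommSys.prodOver_congr _ fun r hr => hz r (hsub r hr)
  have hm : (hF.sys F).prodOver Ps.flatten t ∈ MS X ⊓ (hF.tsys F).US (qL D) := by
    clear hperm hPs
    induction Ps with
    | nil => exact one_mem _
    | cons P Ps ih =>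
      have h2 := mul_mem (hPmem P List.mem_cons_self) (ih fun Q hQ => hPmem Q (List.mem_cons_of_mem _ hQ))
      simpa [CommSys.prodOver, List.map_append, List.prod_append] using h2
  obtain ⟨hmM, hmQ⟩ := hm
  set m := (hF.sys F).prodOver Ps.flatten t
  have hd := C.central (mul_mem (inv_mem hmQ) hg) (mul_mem (inv_mem (X.le_fix (mem_MS.1 hmM).1)) hf)
    fun r hr => by
      have hnd : Ps.flatten.Nodup := hperm.nodup_iff.2 (SubMax.q1_nodup hF)
      rw [φ_mul hfree hr (inv_mem hmQ) hg, φ_inv hfree hr hmQ,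
        φ_prodOver hfree hr t hnd (fun s hs => hq s (hperm.mem_iff.1 hs)), if_pos (hperm.mem_iff.2 hr)]
      simp [ht]
  have := mul_mem hmM hd
  rwa [mul_inv_cancel_left] at this

/-- A fixed root element of level one keeps the radical rational. -/
theorem Ctx.side {v : GL D.Idx F} (hv : v ∈ (hF.tsys F).US (qL D)) (hf : v ∈ T.fix) {b : ℕ}
    (hb : b ∈ SubMax.q1 D) (hi : T.R.img b = b) {k : F} (hk : T.fr k = k) :
    v * hF.xg b k * v⁻¹ ∈ MS X := by
  obtain ⟨J, Ps, hQ, hfree, -⟩ := C.qfree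
  simp only [okQ, Bool.and_eq_true, List.all_eq_true, Bool.or_eq_true, bne_iff_ne, List.isEmpty_iff] at hQ
  obtain ⟨hc, hsrc⟩ := (hQ.2 b hb).resolve_left (fun h => h hi)
  have hblt := (SubMax.q1_pos hb).2
  obtain ⟨hmem, hφ⟩ := comm_root (hF := hF) hfree hc (-k) hv
  rw [hF.xg_neg, inv_inv] at hmem hφ
  have hxf := (C.xg_fix_iff hblt hi k).2 hk
  have hg := C.central hmem (mul_mem (mul_mem (mul_mem (inv_mem hxf) hf) hxf) (inv_mem hf)) fun r hr => by
    rw [hφ r hr [] (hsrc r hr) (by simp)]; simp [delta]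
  have := mul_mem (C.long_mem hblt hi hk) hg
  rwa [show hF.xg b k * ((hF.xg b k)⁻¹ * v * hF.xg b k * v⁻¹) = v * hF.xg b k * v⁻¹ by group] at this

end Cfsg.Agent.Lie.TwMax
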