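import Cfsg.Agent.Lib.Lie.TwMax.Cent
import Cfsg.Agent.Lib.Lie.SubMax.Main

/-!
Overgroups of the subfield subgroup of a twisted group.
-/

set_option autoImplicit false

namespace Cfsg.Agent.Lie.TwMax

open Cfsg.Lie Matrix
open scoped MatrixGroups

/-- Conjugation of an integral word by a root element with integral parameter. -/
def stepW (D : ChevalleyDatum) (a : ℕ) (k : ℤ) (w : List (ℕ × ℤ)) : List (ℕ × ℤ) :=
  w.flatMap fun p => p :: (tms D a p.1).map fun c => (c.1, c.2.1 * k * p.2)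

/-- Conjugation by a word. -/
def conjW (D : ChevalleyDatum) : List (ℕ × ℤ) → List (ℕ × ℤ) → List (ℕ × ℤ)
  | [], w => w
  | p :: g, w => stepW D p.1 p.2 (conjW D g w)

/-- The table for one step. -/
def okStep (D : ChevalleyDatum) (a : ℕ) (w : List (ℕ × ℤ)) : Bool :=
  decide (a < D.nroots) && w.all fun p => decide (p.1 < D.nroots) && p.1 != D.neg a &&
    (tms D a p.1).all fun c => c.2.2.1 == 1 && c.2.2.2 == 1

/-- The table for conjugation by a word. -/
def okConjW (D : ChevalleyDatum) : List (ℕ × ℤ) → List (ℕ × ℤ) → Bool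
  | [], _ => true
  | p :: g, w => okConjW D g w && okStep D p.1 (conjW D g w)

/-- A fixed root, a word of short root elements and the resulting coordinate at a node. -/
def okGen (D : ChevalleyDatum) (R : RMap) (i : ℕ) (r : ℕ) (g : List (ℕ × ℤ)) : Bool :=
  decide (r < D.nroots) && R.img r == r && okComm D (g.map Prod.fst) &&
  ((g.map Prod.fst).map R.img).isPerm (g.map Prod.fst) && decide (g.map Prod.fst).Nodup &&
  g.all (fun p => decide (D.nroots / 2 ≤ p.1) && R.expo p.1 == 1 &&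
    g.any fun p' => p'.1 == R.img p.1 && p'.2 == R.sign p.1 * p.2) &&
  okConjW D g [(r, 1)] &&
  match conjW D g [(r, 1)] with
    | (r', 1) :: rest => r' == r && rest.all (fun p => decide (D.nroots / 2 ≤ p.1) && decide (p.1 < D.nroots)) &&
        ((rest.filter fun p => p.1 == D.simple i).map Prod.snd).sum.natAbs == 1
    | _ => false

variable {D : ChevalleyDatum} {F : Type*} [Field F] {hF : Facts D}

/-- The value of an integral word. -/
noncomputable def iwg (hF : Facts D) (F : Type*) [Field F] (w : List (ℕ × ℤ)) : GL D.Idx F :=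
  hF.wg (w.map fun p => (p.1, (p.2 : F)))

theorem iwg_cons (p : ℕ × ℤ) (w : List (ℕ × ℤ)) :
    iwg hF F (p :: w) = hF.xg p.1 (p.2 : F) * iwg hF F w := by
  rw [iwg, List.map_cons, hF.wg_cons]; rfl

theorem iwg_append (w w' : List (ℕ × ℤ)) : iwg hF F (w ++ w') = iwg hF F w * iwg hF F w' := by
  rw [iwg, List.map_append, hF.wg_append]; rfl

theorem step_spec {a : ℕ} (k : ℤ) : ∀ w : List (ℕ × ℤ), okStep D a w = true →
    hF.xg a (k : F) * iwg hF F w * (hF.xg a (k : F))⁻¹ = iwg hF F (stepW D a k w) := by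
  intro w
  induction w with
  | nil => intro _; simp [stepW, iwg, hF.wg_nil]
  | cons p w ih =>
    intro h
    simp only [okStep, Bool.and_eq_true, decide_eq_true_eq, List.all_cons, bne_iff_ne] at h
    obtain ⟨ha, ⟨⟨hp, hne⟩, ht⟩, hw⟩ := h
    have ih' := ih (by simp only [okStep, Bool.and_eq_true, decide_eq_true_eq, bne_iff_ne]; exact ⟨ha, hw⟩)
    have e := xg_conj (hF := hF) ha hp hne (k : F) (p.2 : F)
    have e2 : iwg hF F ((tms D a p.1).map fun c => (c.1, c.2.1 * k * p.2)) =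
        hF.wg ((tms D a p.1).map fun c => (c.1, (c.2.1 : F) * (k : F) ^ c.2.2.1 * (p.2 : F) ^ c.2.2.2)) := by
      rw [iwg, List.map_map]
      congr 1
      refine List.map_congr_left fun c hc => ?_
      simp only [List.all_eq_true, Bool.and_eq_true, beq_iff_eq] at ht
      obtain ⟨e1, e2⟩ := ht c hc
      simp [e1, e2]
    rw [show stepW D a k (p :: w) = (p :: (tms D a p.1).map fun c => (c.1, c.2.1 * k * p.2)) ++ stepW D a k w
      from List.flatMap_cons, iwg_append, iwg_cons, iwg_cons, e2, ← e, ← ih']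
    group

theorem conjW_spec : ∀ g w : List (ℕ × ℤ), okConjW D g w = true →
    iwg hF F g * iwg hF F w * (iwg hF F g)⁻¹ = iwg hF F (conjW D g w) := by
  intro g
  induction g with
  | nil => intro w _; simp [conjW, iwg, hF.wg_nil]
  | cons p g ih =>
    intro w h
    simp only [okConjW, Bool.and_eq_true] at h
    rw [conjW, ← step_spec p.2 _ h.2, ← ih w h.1, iwg_cons]
    group

variable [Finite F] {T : Twist hF F} {Os : List (List (Fin D.rank))} {X : TwData T Os}

/-- Commuting with all conjugates of a highest root element by the rational elements. -/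
def Fix1 (X : TwData T Os) (h : GL D.Idx F) : Prop :=
  ∀ m ∈ MS X, Commute (m⁻¹ * h * m) (hF.xg (SubMax.top D) 1)

theorem Fix1.conj {h m : GL D.Idx F} (hh : Fix1 X h) (hm : m ∈ MS X) : Fix1 X (m⁻¹ * h * m) := fun m' hm' => by
  have := hh (m * m') (mul_mem hm hm')
  rwa [show m'⁻¹ * (m⁻¹ * h * m) * m' = (m * m')⁻¹ * h * (m * m') by group]

variable (C : Ctx X)

include C

theorem Fix1.commute_long {h : GL D.Idx F} (hh : Fix1 X h) {r : ℕ} (hr : r < D.nroots) (hi : T.R.img r = r) :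
    Commute h (hF.xg r 1) := by
  obtain ⟨m, hm, e, he, hconj⟩ := C.long_conj r hr hi
  obtain ⟨n, hn, f, hf, hconj'⟩ := C.long_conj _ C.top_lt C.top_img
  have hsign : e * f = 1 ∨ e * f = -1 := mul_self_eq_one_iff.1 (by linear_combination (f * f) * he + hf)
  have h0 := (hh _ (mul_mem (inv_mem hm) hn)).eq
  have h1 : Commute h (m⁻¹ * n * hF.xg (SubMax.top D) 1 * (m⁻¹ * n)⁻¹) := by
    show _ = _
    calc h * (m⁻¹ * n * hF.xg (SubMax.top D) 1 * (m⁻¹ * n)⁻¹)
        = m⁻¹ * n * ((m⁻¹ * n)⁻¹ * h * (m⁻¹ * n) * hF.xg (SubMax.top D) 1) * (m⁻¹ * n)⁻¹ := by group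
      _ = _ := by rw [h0]; group
  have e1 : m⁻¹ * n * hF.xg (SubMax.top D) 1 * (m⁻¹ * n)⁻¹ = hF.xg r (e * f) := by
    have h2 : m * hF.xg r (e * f) * m⁻¹ = n * hF.xg (SubMax.top D) 1 * n⁻¹ := by
      rw [hconj, hconj', ← mul_assoc, he, one_mul, mul_one]
    calc m⁻¹ * n * hF.xg (SubMax.top D) 1 * (m⁻¹ * n)⁻¹
        = m⁻¹ * (n * hF.xg (SubMax.top D) 1 * n⁻¹) * m := by group
      _ = _ := by rw [← h2]; group
  rw [e1] at h1
  rcases hsign with h3 | h3
  · rwa [h3] at h1
  · rw [h3, hF.xg_neg] at h1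
    exact Commute.inv_right_iff.1 h1

/-- The tables for all nodes. -/
def okGens (D : ChevalleyDatum) (R : RMap) (gens : List (ℕ × ℕ × List (ℕ × ℤ))) : Bool :=
  (List.range D.rank).all fun i => R.img (D.simple i) == D.simple i ||
    gens.any fun p => p.1 == i && okGen D R i p.2.1 p.2.2

theorem Fix1.centU {gens : List (ℕ × ℕ × List (ℕ × ℤ))} (hG : okGens D T.R gens = true) {h : GL D.Idx F}
    (hh : Fix1 X h) : CentU hF h := by
  intro i
  by_cases hs : T.R.img (D.simple i.val) = D.simple i.val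
  · exact ⟨_, (hF.tsys F).x_mem_U (hF.simple_ge i i.isLt) (hF.simple_lt i i.isLt) 1, 1, one_ne_zero,
      ⟨1, one_mem _, (one_mul _).symm⟩, hh.commute_long C (hF.simple_lt i i.isLt) hs⟩
  simp only [okGens, List.all_eq_true, List.mem_range, Bool.or_eq_true, beq_iff_eq, List.any_eq_true,
    Bool.and_eq_true] at hG
  obtain ⟨⟨j, r, g⟩, -, rfl, hg⟩ := (hG i i.isLt).resolve_left hs
  simp only [okGen, Bool.and_eq_true, decide_eq_true_eq, beq_iff_eq, List.isPerm_iff, List.all_eq_true,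
    List.any_eq_true] at hg
  obtain ⟨⟨⟨⟨⟨⟨⟨hr, hri⟩, hcm⟩, hperm⟩, hnd⟩, hgp⟩, hcj⟩, hmatch⟩ := hg
  set P := g.map Prod.fst with hP
  set t : ℕ → F := fun s => (((g.lookup s).getD 0 : ℤ) : F) with htdef
  have hlook : ∀ p ∈ g, (g.lookup p.1).getD 0 = p.2 := by
    intro p hp
    have : ∀ g : List (ℕ × ℤ), (g.map Prod.fst).Nodup → p ∈ g → g.lookup p.1 = some p.2 := by
      intro g
      induction g with
      | nil => simp
      | cons q g ih =>
        obtain ⟨qa, qb⟩ := q
        intro hnd hp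
        obtain ⟨hq, hnd'⟩ := List.nodup_cons.1 hnd
        rcases List.mem_cons.1 hp with rfl | hp'
        · simp [List.lookup]
        · have hne : (p.1 == qa) = false := beq_eq_false_iff_ne.2 fun e => hq (List.mem_map.2 ⟨p, hp', e⟩)
          simp [List.lookup, hne, ih hnd' hp']
    rw [this g hnd hp, Option.getD_some]
  have hy : iwg hF F g = (hF.sys F).prodOver P t := by
    rw [iwg, hP]
    simp only [CommSys.prodOver, Facts.wg, List.map_map, Facts.sys_x]
    congr 1
    refine List.map_congr_left fun p hp => ?_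
    simp [htdef, hlook p hp]
  have hyM : iwg hF F g ∈ MS X := by
    rw [hy]
    have hfix : (hF.sys F).prodOver P t ∈ T.fix := prodOver_fix_signed hcm hperm t fun s hs => by
      obtain ⟨p, hp, rfl⟩ := List.mem_map.1 hs
      obtain ⟨⟨-, he⟩, p', hp', e1, e2⟩ := hgp p hp
      refine ⟨he, ?_⟩
      simp only [htdef, ← e1, hlook p hp, hlook p' hp', e2, Int.cast_mul, map_intCast]
    refine mem_MS.2 ⟨X.U_fix_le ⟨CommSys.US_mono _ (fun s hs => ?_) (CommSys.prodOver_mem _ P t), hfix⟩, ?_⟩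
    · obtain ⟨p, hp, rfl⟩ := List.mem_map.1 hs
      simp only [okComm, List.all_eq_true, Bool.and_eq_true, decide_eq_true_eq] at hcm
      exact Facts.mem_posL.2 ⟨(hgp p hp).1.1, (hcm p.1 hs).1⟩
    · rw [gmap_prodOver]
      exact CommSys.prodOver_congr _ fun s _ => by simp [htdef]
  have hcalc := conjW_spec (hF := hF) (F := F) g [(r, 1)] hcj
  revert hmatch
  generalize conjW D g [(r, 1)] = res at hcalc
  rcases res with _ | ⟨⟨r', one⟩, rest⟩
  · simp
  intro hmatch
  split at hmatch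
  swap
  · exact absurd hmatch (by simp)
  next r'' rest' heq =>
  simp only [List.cons.injEq, Prod.mk.injEq] at heq
  obtain ⟨⟨rfl, rfl⟩, rfl⟩ := heq
  simp only [Bool.and_eq_true, beq_iff_eq, List.all_eq_true, decide_eq_true_eq] at hmatch
  obtain ⟨⟨rfl, hpos⟩, hsum⟩ := hmatch
  have hsimp : iwg hF F [(r', (1 : ℤ))] = hF.xg r' (1 : F) := by simp [iwg, hF.wg_cons, hF.wg_nil]
  rw [hsimp, iwg_cons, Int.cast_one] at hcalc
  have hposF : ∀ p ∈ rest.map (fun p => (p.1, (p.2 : F))), D.nroots / 2 ≤ p.1 ∧ p.1 < D.nroots := by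
    intro p hp
    obtain ⟨p', hp', rfl⟩ := List.mem_map.1 hp
    exact hpos p' hp'
  refine ⟨iwg hF F rest, hF.wg_mem fun p hp => (hF.tsys F).x_mem_U (hposF p hp).1 (hposF p hp).2 _,
    ((((rest.filter fun p => p.1 == D.simple i.val).map Prod.snd).sum : ℤ) : F), ?_, ?_, ?_⟩
  · intro h0
    rcases Int.natAbs_eq (((rest.filter fun p => p.1 == D.simple i.val).map Prod.snd).sum) with e | e <;>
      rw [e, hsum] at h0 <;> simp at h0
  · have hsum' : ∀ l : List (ℕ × ℤ),
        (((l.filter fun p => p.1 == D.simple i.val).map Prod.snd).sum : ℤ) =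
          (((l.map fun p => (p.1, (p.2 : F))).filter fun p => p.1 == D.simple i.val).map Prod.snd).sum := by
      intro l
      induction l with
      | nil => simp
      | cons p l ih =>
        by_cases e : p.1 = D.simple i.val
        · simp [e, ← ih]
        · simp [e, ← ih]
    rw [hsum' rest]
    exact SubMax.hasCoord_wg hF (i := i) _ hposF
  · have h1 := hh.commute_long C hr hri
    have h2 := ((hh.conj hyM).commute_long C hr hri).eq
    have h3 : Commute h (iwg hF F g * hF.xg r' 1 * (iwg hF F g)⁻¹) := by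
      show _ = _
      calc h * (iwg hF F g * hF.xg r' 1 * (iwg hF F g)⁻¹)
          = iwg hF F g * ((iwg hF F g)⁻¹ * h * iwg hF F g * hF.xg r' 1) * (iwg hF F g)⁻¹ := by group
        _ = _ := by rw [h2]; group
    rw [hcalc] at h3
    simpa using h1.inv_right.mul_right h3

theorem Ctx.exists_rep {w : hF.weyl} (hw : T.PiFix w) :
    ∃ a ∈ (hF.tsys F).H, a * (hF.tsys F).nW w ∈ MS X := by
  refine T.piFix_induction X.hOs (P := fun w => ∃ a ∈ (hF.tsys F).H, a * (hF.tsys F).nW w ∈ MS X) ?_ ?_ w hw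
  · exact ⟨((hF.tsys F).nW 1)⁻¹, inv_mem (hF.tsys F).nW_one, by rw [inv_mul_cancel]; exact one_mem _⟩
  · rintro ω hω v - - - - ⟨a, ha, hn⟩
    obtain ⟨b, hb, hbe⟩ := (hF.tsys F).nw_eq (ω := ω) (w := T.wO ω) rfl
    have hm := C.nw_mem ω hω
    rw [hbe] at hm
    obtain ⟨c, hc, hce⟩ := hF.nW_mul (F := F) v (T.wO ω)
    refine ⟨a * ((hF.tsys F).nW v * b * ((hF.tsys F).nW v)⁻¹) * c,
      mul_mem (mul_mem ha ((hF.tsys F).nW_H hb)) hc, ?_⟩
    rw [mul_assoc _ c, ← hce]
    convert mul_mem hn hm using 1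
    group

/-- An element fixing the rational conjugates is trivial. -/
theorem Fix1.eq_one {gens : List (ℕ × ℕ × List (ℕ × ℤ))} (hG : okGens D T.R gens = true) {h : GL D.Idx F}
    (hh : Fix1 X h) (hg : h ∈ D.group F) : h = 1 := by
  obtain ⟨w0, hw0, hL⟩ := T.exists_longest
  obtain ⟨a, ha, hn⟩ := C.exists_rep hw0
  refine (hh.centU C hG).eq_one hg (w0 := w0) (fun r hr => ?_) ha ((hh.conj hn).centU C hG)
  have : r.val ∈ TorusSys.invList w0 := by
    rw [hL]; exact Facts.mem_posL.2 ⟨by simpa [Facts.refSys] using hr, r.isLt⟩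
  obtain ⟨h', hi⟩ := TorusSys.mem_invList.1 this
  exact ((RefSystem.mem_inv _).1 hi).2

omit C in
/-- All standard forms in a proper overgroup are rational. -/
def Extract (X : TwData T Os) : Prop :=
  ∀ H : Subgroup (GL D.Idx F), MS X ≤ H → H ≤ X.G1 → ∀ v ∈ (hF.tsys F).US (qL D), v ∈ T.fix →
    ∀ c : F, c ≠ 0 → T.fr c = c → v * hF.xg (D.neg (SubMax.top D)) c * v⁻¹ ∈ H →
      X.G1 ≤ H ∨ ∀ r ∈ SubMax.q1 D, T.fr (φ hF (qL D) r v) = φ hF (qL D) r v

/-- An overgroup of the subfield subgroup is it or everything. -/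
theorem overgroup {gens : List (ℕ × ℕ × List (ℕ × ℤ))} (hG : okGens D T.R gens = true) (hE : Extract X)
    {H : Subgroup (GL D.Idx F)} (hle : MS X ≤ H) (hH : H ≤ X.G1) : H = MS X ∨ H = X.G1 := by
  by_cases hfull : X.G1 ≤ H
  · exact Or.inr (le_antisymm hH hfull)
  refine Or.inl (le_antisymm (fun g hg => ?_) hle)
  have hgG := X.G1_le (hH hg)
  have hneg := C.neg_top_img
  have hfixes : Fix1 X ((gmap T.fr g)⁻¹ * g) := by
    intro m hm
    have hgm : g * m ∈ H := mul_mem hg (hle hm)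
    have hy : g * m * hF.xg (SubMax.top D) 1 * (g * m)⁻¹ ∈ H :=
      mul_mem (mul_mem hgm (hle (C.top_mem (map_one _)))) (inv_mem hgm)
    obtain ⟨m', hm', v, hv, hvf, c, hc, hcf, he⟩ := C.normal_form (hH hgm)
    have hl : v * hF.xg (D.neg (SubMax.top D)) c * v⁻¹ ∈ H :=
      he ▸ mul_mem (mul_mem (hle hm') hy) (inv_mem (hle hm'))
    have hvM := C.radical_rational hv hvf ((hE H hle hH v hv hvf c hc hcf hl).resolve_left hfull)
    have hlM : v * hF.xg (D.neg (SubMax.top D)) c * v⁻¹ ∈ MS X :=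
      mul_mem (mul_mem hvM (C.long_mem (hF.neg_lt C.top_lt) hneg hcf)) (inv_mem hvM)
    have hyr : g * m * hF.xg (SubMax.top D) 1 * (g * m)⁻¹ ∈ MS X := by
      have := mul_mem (mul_mem (inv_mem hm') (he ▸ hlM)) hm'
      simpa [mul_assoc] using this
    have e := (mem_MS.1 hyr).2
    rw [map_mul, map_mul, map_inv, map_mul, (mem_MS.1 hm).2, hF.gmap_xg, map_one] at e
    show _ = _
    calc m⁻¹ * ((gmap T.fr g)⁻¹ * g) * m * hF.xg (SubMax.top D) 1
        = m⁻¹ * (gmap T.fr g)⁻¹ * (g * m * hF.xg (SubMax.top D) 1 * (g * m)⁻¹) * (g * m) := by group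
      _ = _ := by rw [← e]; group
  have h1 := hfixes.eq_one C hG (mul_mem (inv_mem (SubMax.gmap_mem_group hF T.fr hgG)) hgG)
  exact mem_MS.2 ⟨hH hg, inv_mul_eq_one.1 h1⟩

end Cfsg.Agent.Lie.TwMax
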